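import Cfsg.Agent.H251.GeoCardC
import Cfsg.Agent.Lib.Zsigmondy
import Cfsg.Agent.H931.SpProper
import Cfsg.Agent.H914.SixBase
import Cfsg.Agent.H753.NoPsl52_m3
import Cfsg.Agent.S2119
import Cfsg.Agent.S0813
import Cfsg.Agent.S0815
import Cfsg.Agent.S0280
import Cfsg.Agent.S1619
import Cfsg.Agent.OddHalf.D4.Spor.JTwo
import Cfsg.Agent.KFacts.J2.Facts
import Cfsg.Agent.ClassicalGeometry.PSL2Basic
import Cfsg.Agent.FastGrp
import Cfsg.Agent.Prune
set_option linter.all false

section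
prune_inst 0x7f00000000000000000000000000000000000000000000000000000000000000000000000000000000000000000000000000000000000000000000000000000000000000000000000000000000000000003fffffffffffffffffffffffffffbeffbdffffffff

-- part: H109/Cov/Num
section
set_option linter.all false
open scoped Cfsg.Agent.FastGrp

/-!
# S2499, `PSp_6(q)`: primitive prime divisors and the geometric subgroups (helper109)

`PP p f k l` : `l` is a primitive prime divisor of `(p ^ f) ^ k - 1` with respect to `p` (the order of `p` modulo `l` is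
`k * f`).
-/

set_option autoImplicit false

namespace Cfsg.Agent.H109.Cov

open Cfsg Cfsg.Geo Cfsg.Agent.H251.GeoCard

/-- the order of `p` modulo the prime `l` is `k * f` -/
structure PP (p f k l : ℕ) : Prop where
  prime : l.Prime
  iff : ∀ m, l ∣ p ^ m - 1 ↔ k * f ∣ m
  sub : k * f ∣ l - 1
  ndvd : ¬ l ∣ p

theorem exists_pp {p f : ℕ} (hp : 3 ≤ p) (hf : 1 ≤ f) {k : ℕ} (hk : 3 ≤ k) : ∃ l, PP p f k l := by
  have h1 : 3 ≤ k * f := by nlinarith
  obtain ⟨l, h2, h3, h4, h5⟩ := Lib.Zsigmondy.exists_primitive (a := p) (n := k * f) (by omega) (by omega)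
    (by omega) (by omega)
  exact ⟨l, h2, h3, h4, h5⟩

namespace PP

variable {p f k l : ℕ} (h : PP p f k l)
include h

theorem lt (hf : 1 ≤ f) (hk : 1 ≤ k) : k < l := by
  have h1 := Nat.le_of_dvd (by have := h.prime.two_le; omega) h.sub
  have h2 : k ≤ k * f := Nat.le_mul_of_pos_right k hf
  have := h.prime.two_le
  omega

theorem mul_lt (_hf : 1 ≤ f) (_hk : 1 ≤ k) : k * f < l := by
  have h1 := Nat.le_of_dvd (by have := h.prime.two_le; omega) h.sub
  have := h.prime.two_le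
  omega

theorem pow_iff (hf : 1 ≤ f) (i : ℕ) : l ∣ (p ^ f) ^ i - 1 ↔ k ∣ i := by
  rw [← pow_mul, h.iff, mul_comm f i]
  exact ⟨fun h => Nat.dvd_of_mul_dvd_mul_right (by omega) h, fun h => Nat.mul_dvd_mul_right h f⟩

theorem not_dvd_card : ¬ l ∣ p ^ f := fun h' => h.ndvd (h.prime.dvd_of_dvd_pow h')

theorem le_of_div (hf : 1 ≤ f) {n : ℕ} (hd : Div l (p ^ f) n) : k ≤ n := by
  obtain ⟨i, h1, h2, h3⟩ := hd
  rw [h.pow_iff hf] at h3
  exact (Nat.le_of_dvd (by omega) h3).trans h2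

/-- two primitive primes with different exponents are different -/
theorem ne {k' l' : ℕ} (h' : PP p f k' l') (hf : 1 ≤ f) (hk : k ≠ k') : l ≠ l' := by
  rintro rfl
  apply hk
  have h1 : k * f ∣ k' * f := (h.iff _).1 ((h'.iff _).2 dvd_rfl)
  have h2 : k' * f ∣ k * f := (h'.iff _).1 ((h.iff _).2 dvd_rfl)
  exact Nat.eq_of_mul_eq_mul_right (by omega) (Nat.dvd_antisymm h1 h2)

theorem ne_char (hp : p.Prime) : l ≠ p := by
  rintro rfl
  exact h.ndvd dvd_rfl

/-- subfields -/
theorem le_of_div_sub (hf : 1 ≤ f) {a r n : ℕ} (hr : 2 ≤ r) (hf' : f = a * r) (hd : Div l (p ^ a) n) : k * r ≤ n := by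
  obtain ⟨i, h1, h2, h3⟩ := hd
  have ha : 0 < a := by
    rcases Nat.eq_zero_or_pos a with h | h
    · rw [h, zero_mul] at hf'; omega
    · exact h
  rw [← pow_mul, h.iff, hf'] at h3
  have h4 : a * (k * r) ∣ a * i := by
    rwa [show k * (a * r) = a * (k * r) by ring] at h3
  exact (Nat.le_of_dvd (by omega) (Nat.dvd_of_mul_dvd_mul_left ha h4)).trans h2

end PP

section Kill

variable {ι : Type} [Fintype ι] [DecidableEq ι] {F : Type*} [Field F] [Fintype F] {p f k l : ℕ}

/-- (C2) -/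
theorem kill_decomp (h : PP p f k l) (hf : 1 ≤ f) (hF : Nat.card F = p ^ f) {t m : ℕ}
    {D : Fin t → Submodule F (ι → F)} (hD : IsMDecomposition m D) (ht : t < l) (hm : m < k) :
    ¬ l ∣ Nat.card (decompositionStabilizer D) := by
  intro hd
  rcases decomp hD h.prime (by rw [hF]; exact h.not_dvd_card) hd with h1 | h1
  · omega
  · rw [hF] at h1
    have := h.le_of_div hf h1
    omega

/-- (C4) -/
theorem kill_tensor (h : PP p f k l) (hf : 1 ≤ f) (hF : Nat.card F = p ^ f) {n₁ n₂ : ℕ} (e : ι ≃ Fin n₁ × Fin n₂)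
    (P : GL ι F) (h1 : n₁ < k) (h2 : n₂ < k) : ¬ l ∣ Nat.card (tensorProductSubgroup n₁ n₂ e P) := by
  intro hd
  have h3 := tensor e P h.prime (by rw [hF]; exact h.not_dvd_card) hd
  rw [hF] at h3
  have := h.le_of_div hf h3
  omega

/-- (C5) -/
theorem kill_subfield (hp : p.Prime) (h : PP p f k l) (hf : 1 ≤ f) (hF : Nat.card F = p ^ f) {F₀ : Subfield F} {r : ℕ}
    (hr : 2 ≤ r) (hc : Fintype.card F = Nat.card F₀ ^ r) (P : GL ι F) (hk : 2 ≤ k) (hn : Fintype.card ι < k * r) :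
    ¬ l ∣ Nat.card (subfieldSubgroup F₀ P) := by
  intro hd
  rcases subfield h.prime (by rw [hF]; exact h.not_dvd_card) hd with h1 | h1
  · have h2 : Div l (p ^ f) 1 := div_one le_rfl (by rwa [← hF])
    have := h.le_of_div hf h2
    omega
  · rw [← Nat.card_eq_fintype_card, hF] at hc
    obtain ⟨a, -, ha⟩ := (Nat.dvd_prime_pow hp).1 (show Nat.card F₀ ∣ p ^ f by
      rw [hc]; exact dvd_pow_self _ (by omega))
    rw [ha, ← pow_mul] at hc
    have har : f = a * r := Nat.pow_right_injective hp.two_le hc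
    rw [ha] at h1
    have := h.le_of_div_sub hf hr har h1
    omega

/-- (C3) -/
theorem kill_extension [Nonempty ι] (h : PP p f k l) (hf : 1 ≤ f) (hF : Nat.card F = p ^ f) {r : ℕ} (hr : r.Prime)
    {K : Subalgebra F (Matrix ι ι F)} (hK : IsFieldSubalgebra r K) (hlr : l ≠ r)
    (hdiv : ∀ i, 1 ≤ i → i ≤ Fintype.card ι / r → ¬ k ∣ r * i) :
    ¬ l ∣ Nat.card (subalgebraNormalizer K) := by
  intro hd
  rcases extension hr hK h.prime (by rw [hF]; exact h.not_dvd_card) hd with h1 | h1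
  · exact hlr h1
  · obtain ⟨i, h2, h3, h4⟩ := h1
    rw [hF, ← pow_mul, h.pow_iff hf] at h4
    exact hdiv i h2 h3 h4

end Kill

end Cfsg.Agent.H109.Cov
end

-- part: H109/Cov/Res
section
set_option linter.all false
open scoped Cfsg.Agent.FastGrp

-- part: H109/Cov/Lin
section
/-!
# S2499, `PSp_6(q)`: fixed vectors and invariant subspaces (helper109)

* `dvd_dim` : `g` of prime order `l`, `l` primitive for `|F| ^ k - 1`: `k ∣ dim X - dim (X ∩ fix g)` for invariant `X`;
* `fx_nd`   : the fixed space of an isometry of order prime to the characteristic is non-degenerate;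
* `finrank_le_of_ts` : totally singular subspaces have dimension at most `m`.
-/

set_option autoImplicit false

namespace Cfsg.Agent.H109.Cov

open Cfsg Cfsg.Geo Module Cfsg.Agent.ClassicalGeometry.SympBasic
open scoped Matrix MatrixGroups

section gen

variable {ι : Type} [Fintype ι] [DecidableEq ι] {F : Type*} [Field F]

/-- the space of fixed vectors -/
def fx (g : GL ι F) : Submodule F (ι → F) where
  carrier := {v | (g : Matrix ι ι F) *ᵥ v = v}
  add_mem' {a b} ha hb := by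
    change (g : Matrix ι ι F) *ᵥ (a + b) = a + b
    rw [Matrix.mulVec_add]
    exact congrArg₂ _ ha hb
  zero_mem' := Matrix.mulVec_zero _
  smul_mem' c v hv := by
    change (g : Matrix ι ι F) *ᵥ (c • v) = c • v
    rw [Matrix.mulVec_smul]
    exact congrArg _ hv

theorem mem_fx {g : GL ι F} {v : ι → F} : v ∈ fx g ↔ (g : Matrix ι ι F) *ᵥ v = v := Iff.rfl

/-- `X` is invariant under `g` -/
def Inv (g : GL ι F) (X : Submodule F (ι → F)) : Prop := ∀ v ∈ X, (g : Matrix ι ι F) *ᵥ v ∈ X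

theorem inv_of_mem {g : GL ι F} {W : Submodule F (ι → F)} (hg : g ∈ subspaceStabilizer W) : Inv g W :=
  fun v hv => (hg v).1 hv

theorem pow_mulVec_fx {g : GL ι F} {v : ι → F} (hv : v ∈ fx g) (n : ℕ) : v ∈ fx (g ^ n) := by
  induction n with
  | zero => rw [pow_zero, mem_fx, Units.val_one, Matrix.one_mulVec]
  | succ n ih =>
    rw [mem_fx] at hv ih ⊢
    rw [pow_succ, Units.val_mul, ← Matrix.mulVec_mulVec, hv, ih]

theorem Inv.pow {g : GL ι F} {X : Submodule F (ι → F)} (h : Inv g X) (n : ℕ) : Inv (g ^ n) X := by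
  induction n with
  | zero => intro v hv; rwa [pow_zero, Units.val_one, Matrix.one_mulVec]
  | succ n ih =>
    intro v hv
    rw [pow_succ, Units.val_mul, ← Matrix.mulVec_mulVec]
    exact ih _ (h v hv)

theorem eq_one_of_fx {g : GL ι F} (h : fx g = ⊤) : g = 1 := by
  apply Units.ext
  apply Matrix.toLin'.injective
  apply LinearMap.ext
  intro v
  have : v ∈ fx g := by rw [h]; trivial
  rw [Matrix.toLin'_apply, Units.val_one, Matrix.toLin'_one]
  exact this

/-- the conjugate subspace `g⁻¹ W` -/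
theorem inv_conj {g x : GL ι F} {W : Submodule F (ι → F)} (h : Inv (g * x * g⁻¹) W) :
    Inv x (W.comap (Matrix.toLin' (g : Matrix ι ι F))) := by
  intro v hv
  rw [Submodule.mem_comap, Matrix.toLin'_apply] at hv ⊢
  have h1 := h _ hv
  rw [Units.val_mul, Units.val_mul, ← Matrix.mulVec_mulVec, ← Matrix.mulVec_mulVec, Matrix.mulVec_mulVec v,
    ← Units.val_mul, inv_mul_cancel, Units.val_one, Matrix.one_mulVec] at h1
  exact h1

theorem finrank_comap (g : GL ι F) (W : Submodule F (ι → F)) :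
    finrank F (W.comap (Matrix.toLin' (g : Matrix ι ι F))) = finrank F W := by
  let e : (ι → F) ≃ₗ[F] (ι → F) := LinearEquiv.ofLinear (Matrix.toLin' (g : Matrix ι ι F))
    (Matrix.toLin' ((g⁻¹ : GL ι F) : Matrix ι ι F))
    (by rw [← Matrix.toLin'_mul, ← Units.val_mul, mul_inv_cancel, Units.val_one, Matrix.toLin'_one])
    (by rw [← Matrix.toLin'_mul, ← Units.val_mul, inv_mul_cancel, Units.val_one, Matrix.toLin'_one])
  have h1 : W.comap (Matrix.toLin' (g : Matrix ι ι F)) = W.map (e.symm : (ι → F) →ₗ[F] (ι → F)) := by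
    have h2 : W.comap (e : (ι → F) →ₗ[F] (ι → F)) = W.map (e.symm : (ι → F) →ₗ[F] (ι → F)) :=
      Submodule.comap_equiv_eq_map_symm e W
    have h3 : (e : (ι → F) →ₗ[F] (ι → F)) = Matrix.toLin' (g : Matrix ι ι F) := LinearMap.ext fun v => rfl
    rw [← h3]
    exact h2
  rw [h1]
  exact LinearEquiv.finrank_map_eq e.symm W

variable [Finite F]

theorem dvd_dim {k l : ℕ} (hl : l.Prime) (hF : ¬ l ∣ Nat.card F) (hk : ∀ i, l ∣ Nat.card F ^ i - 1 → k ∣ i)
    {g : GL ι F} (hg : g ^ l = 1) {X : Submodule F (ι → F)} (hX : Inv g X) :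
    k ∣ finrank F X - finrank F (X ⊓ fx g : Submodule F (ι → F)) := by
  classical
  have := Fact.mk hl
  have : Fintype F := Fintype.ofFinite F
  have : Fintype X := Fintype.ofFinite X
  let f : Function.End X := fun v => ⟨(g : Matrix ι ι F) *ᵥ v, hX v v.2⟩
  have hf : ∀ n : ℕ, ∀ v : X, ((f ^ n) v : ι → F) = ((g ^ n : GL ι F) : Matrix ι ι F) *ᵥ (v : ι → F) := by
    intro n
    induction n with
    | zero => intro v; rw [pow_zero, pow_zero, Units.val_one, Matrix.one_mulVec]; rfl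
    | succ n ih =>
      intro v
      rw [pow_succ, pow_succ, Units.val_mul, ← Matrix.mulVec_mulVec]
      change ((f ^ n) (f v) : ι → F) = _
      rw [ih]
  have hfl : f ^ l ^ 1 = 1 := by
    rw [pow_one]
    funext v
    apply Subtype.ext
    rw [hf, hg, Units.val_one, Matrix.one_mulVec]
    rfl
  have h1 := Equiv.Perm.card_fixedPoints_modEq (p := l) (n := 1) (f := f) hfl
  have h2 : Fintype.card (Function.fixedPoints f) = Nat.card (X ⊓ fx g : Submodule F (ι → F)) := by
    rw [← Nat.card_eq_fintype_card]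
    apply Nat.card_congr
    exact
      { toFun := fun v => ⟨v.1.1, v.1.2, congrArg Subtype.val v.2⟩
        invFun := fun v => ⟨⟨v.1, v.2.1⟩, Subtype.ext v.2.2⟩
        left_inv := fun v => rfl
        right_inv := fun v => rfl }
  rw [h2, ← Nat.card_eq_fintype_card, Module.natCard_eq_pow_finrank (K := F) (V := X),
    Module.natCard_eq_pow_finrank (K := F) (V := (X ⊓ fx g : Submodule F (ι → F)))] at h1
  have h3 : finrank F (X ⊓ fx g : Submodule F (ι → F)) ≤ finrank F X := Submodule.finrank_mono inf_le_left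
  apply hk
  have h4 : l ∣ Nat.card F ^ finrank F X - Nat.card F ^ finrank F (X ⊓ fx g : Submodule F (ι → F)) :=
    (Nat.modEq_iff_dvd' (Nat.pow_le_pow_right Nat.card_pos h3)).1 h1.symm
  have h5 : Nat.card F ^ finrank F X - Nat.card F ^ finrank F (X ⊓ fx g : Submodule F (ι → F)) =
      Nat.card F ^ finrank F (X ⊓ fx g : Submodule F (ι → F)) *
        (Nat.card F ^ (finrank F X - finrank F (X ⊓ fx g : Submodule F (ι → F))) - 1) := by
    rw [Nat.mul_sub, mul_one, ← pow_add, Nat.add_sub_cancel' h3]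
  rw [h5] at h4
  rcases hl.dvd_mul.1 h4 with h6 | h6
  · exact absurd (hl.dvd_of_dvd_pow h6) hF
  · exact h6

theorem PP.dvd_dim {p f k l : ℕ} (h : PP p f k l) (hf : 1 ≤ f) (hF : Nat.card F = p ^ f) {g : GL ι F} (hg : g ^ l = 1)
    {X : Submodule F (ι → F)} (hX : Inv g X) :
    k ∣ finrank F X - finrank F (X ⊓ fx g : Submodule F (ι → F)) :=
  Cov.dvd_dim h.prime (by rw [hF]; exact h.not_dvd_card) (fun i hi => by rwa [hF, h.pow_iff hf] at hi) hg hX

/-- the dimension of the fixed space -/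
theorem PP.dvd_fx {p f k l : ℕ} (h : PP p f k l) (hf : 1 ≤ f) (hF : Nat.card F = p ^ f) {g : GL ι F} (hg : g ^ l = 1) :
    k ∣ Fintype.card ι - finrank F (fx g) := by
  have h1 := h.dvd_dim hf hF hg (X := ⊤) (fun _ _ => trivial)
  rwa [finrank_top, finrank_fintype_fun_eq_card, top_inf_eq] at h1

omit [Finite F] in
theorem finrank_fx_lt {g : GL ι F} (hg : g ≠ 1) : finrank F (fx g) < Fintype.card ι := by
  have h1 : fx g < ⊤ := lt_top_iff_ne_top.2 fun h => hg (eq_one_of_fx h)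
  have h2 := Submodule.finrank_lt_finrank_of_lt h1
  rwa [finrank_top, finrank_fintype_fun_eq_card] at h2

end gen

section symp

variable {F : Type*} [Field F] {m : ℕ}

theorem finrank_le_of_ts {W : Submodule F (Fin m ⊕ Fin m → F)} (hW : IsTotallySingularFor (sympForm m F) W) :
    finrank F W ≤ m := by
  let B : LinearMap.BilinForm F (Fin m ⊕ Fin m → F) := sympBilin m F
  have h1 : W ≤ B.orthogonal W := by
    intro w hw u hu
    exact hW u hu w hw
  have h2 := LinearMap.BilinForm.finrank_orthogonal (B := B) (sympBilin_nondegenerate (m := m) (F := F)) W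
  have h3 := Submodule.finrank_mono h1
  have h4 : finrank F W ≤ finrank F (Fin m ⊕ Fin m → F) := Submodule.finrank_le W
  rw [finrank_fintype_fun_eq_card, Fintype.card_sum, Fintype.card_fin] at h2 h4
  omega

theorem sympForm_sum_left {ι : Type*} (s : Finset ι) (a : ι → Fin m ⊕ Fin m → F) (w : Fin m ⊕ Fin m → F) :
    sympForm m F (∑ i ∈ s, a i) w = ∑ i ∈ s, sympForm m F (a i) w := by
  classical
  induction s using Finset.induction_on with
  | empty => simp
  | insert i s hi ih => rw [Finset.sum_insert hi, Finset.sum_insert hi, sympForm_add_left, ih]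

theorem form_eq {g : GL (Fin m ⊕ Fin m) F} (hg : g ∈ spGL m F) (u v : Fin m ⊕ Fin m → F) :
    sympForm m F ((g : Matrix _ _ F) *ᵥ u) ((g : Matrix _ _ F) *ᵥ v) = sympForm m F u v :=
  H931.mem_spGL_iff.1 hg u v

/-- the fixed space of an isometry of order prime to the characteristic is non-degenerate -/
theorem fx_nd {g : GL (Fin m ⊕ Fin m) F} (hg : g ∈ spGL m F) {l : ℕ} (hl : g ^ l = 1) (hl0 : (l : F) ≠ 0)
    {w : Fin m ⊕ Fin m → F} (hw : w ∈ fx g) (hw0 : w ≠ 0) : ∃ x ∈ fx g, sympForm m F x w ≠ 0 := by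
  obtain ⟨v, hv⟩ : ∃ v, sympForm m F v w ≠ 0 := by
    by_contra hcon
    push Not at hcon
    exact hw0 (eq_zero_of_forall_sympForm_left hcon)
  refine ⟨∑ i ∈ Finset.range l, ((g ^ i : GL (Fin m ⊕ Fin m) F) : Matrix (Fin m ⊕ Fin m) (Fin m ⊕ Fin m) F) *ᵥ v, ?_, ?_⟩
  · rw [mem_fx, Matrix.mulVec_sum]
    have h1 : ∀ i, (g : Matrix (Fin m ⊕ Fin m) (Fin m ⊕ Fin m) F) *ᵥ
        (((g ^ i : GL (Fin m ⊕ Fin m) F) : Matrix (Fin m ⊕ Fin m) (Fin m ⊕ Fin m) F) *ᵥ v) =
        ((g ^ (i + 1) : GL (Fin m ⊕ Fin m) F) : Matrix (Fin m ⊕ Fin m) (Fin m ⊕ Fin m) F) *ᵥ v := by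
      intro i
      rw [pow_succ', Units.val_mul, Matrix.mulVec_mulVec]
    simp only [h1]
    have h2 := Finset.sum_range_succ' (fun i => ((g ^ i : GL (Fin m ⊕ Fin m) F) : Matrix (Fin m ⊕ Fin m) (Fin m ⊕ Fin m) F) *ᵥ v) l
    have h3 := Finset.sum_range_succ (fun i => ((g ^ i : GL (Fin m ⊕ Fin m) F) : Matrix (Fin m ⊕ Fin m) (Fin m ⊕ Fin m) F) *ᵥ v) l
    rw [h2, hl, pow_zero] at h3
    exact add_right_cancel h3
  · rw [sympForm_sum_left]
    have h1 : ∀ i ∈ Finset.range l, sympForm m F (((g ^ i : GL (Fin m ⊕ Fin m) F) : Matrix (Fin m ⊕ Fin m) (Fin m ⊕ Fin m) F) *ᵥ v) w =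
        sympForm m F v w := by
      intro i _
      have h2 := pow_mulVec_fx hw i
      rw [mem_fx] at h2
      conv_lhs => rw [← h2]
      exact form_eq ((spGL m F).pow_mem hg i) v w
    rw [Finset.sum_congr rfl h1, Finset.sum_const, Finset.card_range, nsmul_eq_mul]
    exact mul_ne_zero hl0 hv

/-- the comap of a non-degenerate subspace under an isometry is non-degenerate -/
theorem nd_comap {g : GL (Fin m ⊕ Fin m) F} (hg : g ∈ spGL m F) {W : Submodule F (Fin m ⊕ Fin m → F)}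
    (hW : IsNondegenerateOn (sympForm m F) W) :
    IsNondegenerateOn (sympForm m F) (W.comap (Matrix.toLin' (g : Matrix _ _ F))) := by
  have hgi : ∀ x : Fin m ⊕ Fin m → F, (g : Matrix (Fin m ⊕ Fin m) (Fin m ⊕ Fin m) F) *ᵥ
      (((g⁻¹ : GL (Fin m ⊕ Fin m) F) : Matrix (Fin m ⊕ Fin m) (Fin m ⊕ Fin m) F) *ᵥ x) = x := by
    intro x
    rw [Matrix.mulVec_mulVec, ← Units.val_mul, mul_inv_cancel, Units.val_one, Matrix.one_mulVec]
  intro w hw hw0
  rw [Submodule.mem_comap, Matrix.toLin'_apply] at hw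
  have h1 : (g : Matrix (Fin m ⊕ Fin m) (Fin m ⊕ Fin m) F) *ᵥ w ≠ 0 := by
    intro h
    apply hw0
    have h2 : ((g⁻¹ : GL (Fin m ⊕ Fin m) F) : Matrix (Fin m ⊕ Fin m) (Fin m ⊕ Fin m) F) *ᵥ ((g : Matrix (Fin m ⊕ Fin m) (Fin m ⊕ Fin m) F) *ᵥ w) = 0 := by
      rw [h, Matrix.mulVec_zero]
    rwa [Matrix.mulVec_mulVec, ← Units.val_mul, inv_mul_cancel, Units.val_one, Matrix.one_mulVec] at h2
  obtain ⟨⟨x, hx, hx1⟩, y, hy, hy1⟩ := hW _ hw h1
  refine ⟨⟨((g⁻¹ : GL (Fin m ⊕ Fin m) F) : Matrix (Fin m ⊕ Fin m) (Fin m ⊕ Fin m) F) *ᵥ x, ?_, ?_⟩,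
    ((g⁻¹ : GL (Fin m ⊕ Fin m) F) : Matrix (Fin m ⊕ Fin m) (Fin m ⊕ Fin m) F) *ᵥ y, ?_, ?_⟩
  · rw [Submodule.mem_comap, Matrix.toLin'_apply, hgi]; exact hx
  · rwa [← form_eq hg, hgi]
  · rw [Submodule.mem_comap, Matrix.toLin'_apply, hgi]; exact hy
  · rwa [← form_eq hg, hgi]

end symp

end Cfsg.Agent.H109.Cov
end

-- part: H109/Cov/Res
section
/-!
# S2499, `PSp_6(q)`: the residual subgroups (helper109)

* `card_dvd` : the order of a residual subgroup `H` of `Sp_2m(q)` divides `2 |Aut T|`;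
* `L06`      : the conclusion of S5806;
* `res_cases`, `res_false` : consequences for the divisors of the order.
-/

set_option autoImplicit false

namespace Cfsg.Agent.H109.Cov

open Cfsg Cfsg.Geo Module
open Cfsg.Agent.H753 (conjNormal_injective)
open scoped Matrix MatrixGroups

universe u

/-- **The order divides `2 |Aut T|`.** -/
theorem card_dvd {F : Type u} [Field F] [Finite F] {m : ℕ} (hm : 1 ≤ m) {H P : Subgroup (GL (Fin m ⊕ Fin m) F)}
    (hle : H ≤ spGL m F) (hc : IsResidualCore H P) :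
    Nat.card H ∣ 2 * Nat.card (MulAut (P ⧸ (scalars (Fin m ⊕ Fin m) F).subgroupOf P)) := by
  classical
  set Z : Subgroup H := (scalars (Fin m ⊕ Fin m) F).subgroupOf H with hZ
  have hZn : Z.Normal := inferInstance
  have hPn : (P.subgroupOf H).Normal := ⟨fun x hx g => hc.normal g g.2 x hx⟩
  set T : Subgroup (H ⧸ Z) := (P.subgroupOf H).map (QuotientGroup.mk' Z) with hT
  have hTn : T.Normal := hPn.map _ (QuotientGroup.mk'_surjective Z)
  have hZ2 : Nat.card Z ∣ 2 := by
    have h1 : Nat.card (Z.map H.subtype) ∣ Nat.card (Subgroup.zpowers (-1 : GL (Fin m ⊕ Fin m) F)) := by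
      apply Subgroup.card_dvd_of_le
      rintro _ ⟨z, hz, rfl⟩
      rcases H914.S6.scalar_cases hm (hle z.2) hz with h | h
      · change (z : GL (Fin m ⊕ Fin m) F) ∈ _
        rw [h]; exact one_mem _
      · change (z : GL (Fin m ⊕ Fin m) F) ∈ _
        rw [h]; exact Subgroup.mem_zpowers _
    rw [Nat.card_zpowers, Nat.card_congr (Z.equivMapOfInjective H.subtype H.subtype_injective).symm.toEquiv] at h1
    exact h1.trans (orderOf_dvd_of_pow_eq_one (by rw [neg_one_sq]))
  have hcent : Subgroup.centralizer (T : Set (H ⧸ Z)) = ⊥ := by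
    rw [eq_bot_iff]
    intro g hg
    obtain ⟨h, rfl⟩ := QuotientGroup.mk_surjective g
    rw [Subgroup.mem_bot]
    apply (QuotientGroup.eq_one_iff _).2
    refine hc.centralizer_scalar h h.2 ?_
    intro x hx
    obtain ⟨x', hx'⟩ : ∃ x' : H, (x' : GL (Fin m ⊕ Fin m) F) = x := ⟨⟨x, hc.le hx⟩, rfl⟩
    have h1 := Subgroup.mem_centralizer_iff.1 hg (QuotientGroup.mk' Z x')
      ⟨x', by rw [SetLike.mem_coe, Subgroup.mem_subgroupOf, hx']; exact hx, rfl⟩
    have h2 : QuotientGroup.mk' Z (h * x' * h⁻¹ * x'⁻¹) = 1 := by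
      rw [map_mul, map_mul, map_mul, map_inv, map_inv]
      change (h : H ⧸ Z) * _ * (h : H ⧸ Z)⁻¹ * _ = 1
      rw [← h1]
      group
    rw [QuotientGroup.mk'_apply, QuotientGroup.eq_one_iff, hZ, Subgroup.mem_subgroupOf] at h2
    rw [← hx']
    simpa only [Subgroup.coe_mul, Subgroup.coe_inv] using h2
  obtain ⟨f, hfx⟩ : ∃ f : P →* T, ∀ x : P, (f x : H ⧸ Z) = QuotientGroup.mk' Z ⟨x, hc.le x.2⟩ :=
    ⟨{ toFun := fun x => ⟨QuotientGroup.mk' Z ⟨x, hc.le x.2⟩, ⟨⟨x, hc.le x.2⟩, x.2, rfl⟩⟩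
       map_one' := Subtype.ext rfl
       map_mul' := fun x y => Subtype.ext rfl }, fun x => rfl⟩
  have hf : Function.Surjective f := by
    rintro ⟨_, ⟨x, hx, rfl⟩⟩
    exact ⟨⟨x, hx⟩, Subtype.ext (hfx _)⟩
  have hker : f.ker = (scalars (Fin m ⊕ Fin m) F).subgroupOf P := by
    ext x
    rw [MonoidHom.mem_ker, Subgroup.mem_subgroupOf, ← Subtype.coe_inj, hfx, QuotientGroup.mk'_apply,
      Subgroup.coe_one, QuotientGroup.eq_one_iff, hZ, Subgroup.mem_subgroupOf]
  have e : T ≃* P ⧸ (scalars (Fin m ⊕ Fin m) F).subgroupOf P :=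
    (QuotientGroup.quotientKerEquivOfSurjective f hf).symm.trans (QuotientGroup.quotientMulEquivOfEq hker)
  have hfin : Finite (GL (Fin m ⊕ Fin m) F) := inferInstance
  have h1 : Nat.card (H ⧸ Z) ∣ Nat.card (MulAut T) :=
    Subgroup.card_dvd_of_injective _ (conjNormal_injective T hcent)
  rw [Nat.card_congr (MulAut.congr e).toEquiv] at h1
  rw [← Subgroup.card_mul_index Z]
  exact Nat.mul_dvd_mul hZ2 h1

/-! ### orders of the automorphism groups -/

theorem aut_a5 : Nat.card (MulAut (alternatingGroup (Fin 5))) = 120 := by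
  rw [← Nat.card_congr (Equiv.ofBijective _ (S2119.result 5 (by norm_num) (by norm_num))), Nat.card_perm, Nat.card_fin]
  rfl

theorem aut_psl {F : Type u} [Field F] [Fintype F] {p f : ℕ} (hp : p.Prime) (hf : 1 ≤ f) (hF : Nat.card F = p ^ f)
    (h4 : 4 ≤ p ^ f) :
    Nat.card (MulAut (Matrix.ProjectiveSpecialLinearGroup (Fin 2) F)) = f * (p ^ f * ((p ^ f) ^ 2 - 1)) := by
  have := Fact.mk hp
  rw [Nat.card_eq_fintype_card] at hF
  rw [S0813.result p f hf hF 2 le_rfl (fun _ => h4), if_pos rfl, one_mul, ClassicalGeometry.PSL2Basic.card_PGL2, hF]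

theorem aut_l7 : Nat.card (MulAut (Matrix.ProjectiveSpecialLinearGroup (Fin 2) (ZMod 7))) = 336 := by
  have : Fact (Nat.Prime 7) := ⟨by norm_num⟩
  rw [aut_psl (p := 7) (f := 1) (by norm_num) le_rfl (by rw [Nat.card_zmod, pow_one]) (by norm_num)]
  norm_num

theorem aut_l13 : Nat.card (MulAut (Matrix.ProjectiveSpecialLinearGroup (Fin 2) (ZMod 13))) = 2184 := by
  have : Fact (Nat.Prime 13) := ⟨by norm_num⟩
  rw [aut_psl (p := 13) (f := 1) (by norm_num) le_rfl (by rw [Nat.card_zmod, pow_one]) (by norm_num)]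
  norm_num

theorem aut_u3 {K : Type} [Field K] [Fintype K] (hK : Fintype.card K = 9) : Nat.card (MulAut (PSU 3 K 3)) = 12096 := by
  have : Fact (Nat.Prime 3) := ⟨by norm_num⟩
  rw [S0815.result 3 1 le_rfl (q := 3) (by norm_num) (by rw [hK]; norm_num) 3 le_rfl (by norm_num)]
  have h1 := S0280.result (F := K) (q := 3) (by rw [hK]; norm_num) 3 (by norm_num)
  simp only [Finset.prod_range_succ, Finset.prod_range_zero] at h1
  norm_num at h1
  norm_num
  omega

theorem card_j2 : Nat.card Spor.J2 = 604800 := J2.OrderAssembly.card_J2 S1619.result.1 S1619.result.2.1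

theorem aut_j2 {X : Type*} [Group X] (h : Spor.IsoJ2 X) : Nat.card (MulAut X) ∣ 1209600 := by
  classical
  obtain ⟨e⟩ := h
  have hc : Nat.card X = 604800 := by rw [Nat.card_congr e.toEquiv, card_j2]
  have hfin : Finite X := Nat.finite_of_card_ne_zero (by rw [hc]; norm_num)
  obtain ⟨t, u, Q, v, ρ, D⟩ := KFacts.J2.Facts.exists_dat_of (X := X) ⟨e⟩
  set I := (MulAut.conj : X →* MulAut X).range with hI
  have hinn : ∀ α : MulAut X, α ∈ I ↔ ∃ k, α = MulAut.conj k := by
    intro α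
    exact ⟨fun ⟨k, hk⟩ => ⟨k, hk.symm⟩, fun ⟨k, hk⟩ => ⟨k, hk.symm⟩⟩
  have h1 : I.index ∣ 2 := by
    by_cases h : ∃ β : MulAut X, β ∉ I
    · obtain ⟨β, hβ⟩ := h
      have h3 : I.index = 2 := by
        rw [Subgroup.index_eq_two_iff_exists_notMem_and]
        refine ⟨β, hβ, fun b => ?_⟩
        by_cases hb : b ∈ I
        · right; exact hb
        · left
          rw [hinn] at hb hβ ⊢
          push Not at hb hβ
          exact KFacts.J2.Aut.mul_inner D hb hβ
      rw [h3]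
    · push Not at h
      rw [Subgroup.index_eq_one.2 (eq_top_iff.2 fun x _ => h x)]
      exact one_dvd _
  have h2 : Nat.card I ∣ 604800 := by
    rw [← hc]
    exact Subgroup.card_range_dvd _
  rw [← Subgroup.card_mul_index I, show (1209600 : ℕ) = 604800 * 2 by norm_num]
  exact Nat.mul_dvd_mul h2 h1

end Cfsg.Agent.H109.Cov
end
end
end
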