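import Cfsg.Agent.H109.Cov.Types
import Cfsg.Agent.H781.Cov9.Perm_m3
import Cfsg.Agent.S0245
import Cfsg.Agent.Lib.PSL2Torus
import Cfsg.Agent.H278.Cov.Defs
import Cfsg.Agent.Prune
set_option linter.all false
prune_inst 0x7fffedfffbff3ddfffff7e77aeddddfdfbb93fffa4dff9cbffe869ff0bdf4b98c985fbad8bfa32fe1ef7ca1410e87b43ffffeeffea6fdc7ffffd5ff41ffbffdffdf7b508519c88b40fbc2ffe83f0778e7f3fffffffffffffffffffffffffffbeffbfffffffff
open scoped Cfsg.Agent.FastGrp

-- part: H109/Cov/Kill
section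
/-!
# S2499, `PSp_6(q)`: elements outside the extension field groups; the elements of order `r`, `s p` (helper109)

* `avoid_ft` : an element with a power `y` of order prime to `r` and `r ∤ dim ker P(y)` is in no conjugate of `FT r`;
* `exists_pow_right` : a power of a product of commuting elements of coprime orders;
* `exists_a` : an element of `Sp_6(q)` of prime order `r` (exponent 6);
* `exists_b` : an element with powers of order `s` (exponent 4) and a transvection.
-/

set_option autoImplicit false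

namespace Cfsg.Agent.H109.Cov

open Cfsg Cfsg.Geo Module Cfsg.Agent.ClassicalGeometry.SympBasic
open Cfsg.Agent.H876 (spToGL)
open scoped Matrix MatrixGroups

universe u

section gen

variable {ι : Type} [Fintype ι] [DecidableEq ι] {F : Type u} [Field F]

theorem aeval_conj (g x : GL ι F) (P : Polynomial F) (v : ι → F) :
    Polynomial.aeval (Matrix.toLin' ((g * x * g⁻¹ : GL ι F) : Matrix ι ι F)) P v =
      Matrix.toLin' (g : Matrix ι ι F) (Polynomial.aeval (Matrix.toLin' (x : Matrix ι ι F)) P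
        (Matrix.toLin' ((g⁻¹ : GL ι F) : Matrix ι ι F) v)) := by
  have hgi : ∀ w, Matrix.toLin' ((g⁻¹ : GL ι F) : Matrix ι ι F) (Matrix.toLin' (g : Matrix ι ι F) w) = w := by
    intro w
    rw [Matrix.toLin'_apply, Matrix.toLin'_apply, Matrix.mulVec_mulVec, ← Units.val_mul, inv_mul_cancel, Units.val_one,
      Matrix.one_mulVec]
  have hig : ∀ w, Matrix.toLin' (g : Matrix ι ι F) (Matrix.toLin' ((g⁻¹ : GL ι F) : Matrix ι ι F) w) = w := by
    intro w
    rw [Matrix.toLin'_apply, Matrix.toLin'_apply, Matrix.mulVec_mulVec, ← Units.val_mul, mul_inv_cancel, Units.val_one,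
      Matrix.one_mulVec]
  have h1 : ∀ w, Matrix.toLin' ((g * x * g⁻¹ : GL ι F) : Matrix ι ι F) w =
      Matrix.toLin' (g : Matrix ι ι F) (Matrix.toLin' (x : Matrix ι ι F) (Matrix.toLin' ((g⁻¹ : GL ι F) : Matrix ι ι F) w)) := by
    intro w
    simp only [Matrix.toLin'_apply, Matrix.mulVec_mulVec, Units.val_mul, Matrix.mul_assoc]
  induction P using Polynomial.induction_on' generalizing v with
  | add P Q hP hQ => rw [map_add, map_add, LinearMap.add_apply, LinearMap.add_apply, hP, hQ, map_add]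
  | monomial n a =>
    rw [Polynomial.aeval_monomial, Polynomial.aeval_monomial]
    change a • ((Matrix.toLin' ((g * x * g⁻¹ : GL ι F) : Matrix ι ι F)) ^ n) v =
      Matrix.toLin' (g : Matrix ι ι F) (a • ((Matrix.toLin' (x : Matrix ι ι F)) ^ n)
        (Matrix.toLin' ((g⁻¹ : GL ι F) : Matrix ι ι F) v))
    rw [map_smul]
    congr 1
    induction n with
    | zero => rw [pow_zero, pow_zero]; exact (hig v).symm
    | succ n ih =>
      rw [pow_succ', pow_succ', Module.End.mul_apply, Module.End.mul_apply, ih, h1, hgi]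

theorem finrank_ker_conj (g x : GL ι F) (P : Polynomial F) :
    finrank F (LinearMap.ker (Polynomial.aeval (Matrix.toLin' ((g * x * g⁻¹ : GL ι F) : Matrix ι ι F)) P)) =
      finrank F (LinearMap.ker (Polynomial.aeval (Matrix.toLin' (x : Matrix ι ι F)) P)) := by
  rw [← finrank_comap g⁻¹ (LinearMap.ker (Polynomial.aeval (Matrix.toLin' (x : Matrix ι ι F)) P))]
  have key : LinearMap.ker (Polynomial.aeval (Matrix.toLin' ((g * x * g⁻¹ : GL ι F) : Matrix ι ι F)) P) =
      Submodule.comap (Matrix.toLin' ((g⁻¹ : GL ι F) : Matrix ι ι F))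
        (LinearMap.ker (Polynomial.aeval (Matrix.toLin' (x : Matrix ι ι F)) P)) := ?_
  · rw [key]
  ext v
  rw [LinearMap.mem_ker, Submodule.mem_comap, LinearMap.mem_ker, aeval_conj]
  constructor
  · intro h
    have h1 := congrArg (Matrix.toLin' ((g⁻¹ : GL ι F) : Matrix ι ι F)) h
    rw [map_zero, Matrix.toLin'_apply, Matrix.toLin'_apply, Matrix.mulVec_mulVec, ← Units.val_mul, inv_mul_cancel,
      Units.val_one, Matrix.one_mulVec] at h1
    exact h1
  · intro h
    rw [h, map_zero]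

end gen

/-- **elements outside the extension field groups** -/
theorem avoid_ft {F : Type u} [Field F] [Finite F] {r : ℕ} (hr : r.Prime) {x y : GL (Fin 3 ⊕ Fin 3) F} {n : ℕ}
    (hy : x ^ n = y) (hco : Nat.Coprime (orderOf y) r) {P : Polynomial F}
    (hP : ¬ r ∣ finrank F (LinearMap.ker (Polynomial.aeval (Matrix.toLin' (y : Matrix (Fin 3 ⊕ Fin 3) (Fin 3 ⊕ Fin 3) F)) P)))
    {H : Subgroup (GL (Fin 3 ⊕ Fin 3) F)} (hH : FT r H) (g : GL (Fin 3 ⊕ Fin 3) F) : g * x * g⁻¹ ∉ H := by
  intro hg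
  obtain ⟨K, hK, hle⟩ := hH
  have h1 : g * y * g⁻¹ ∈ subalgebraNormalizer K := by
    rw [← hy, ← conj_pow]
    exact Subgroup.pow_mem _ (hle hg) n
  have h2 := H906.Cov.ext_dvd hr hK h1 (by
    have : orderOf (g * y * g⁻¹) = orderOf y := by
      have h3 : g * y * g⁻¹ = (MulAut.conj g).toMonoidHom y := rfl
      rw [h3]
      exact orderOf_injective _ (MulAut.conj g).injective y
    rw [this]
    exact hco) P
  rw [finrank_ker_conj] at h2
  exact hP h2

theorem exists_pow_right {G : Type*} [Group G] {a b : G} (hab : Commute a b) {m n : ℕ} (hm : a ^ m = 1) (hn : b ^ n = 1)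
    (hco : Nat.Coprime m n) : ∃ k, (a * b) ^ k = b := by
  obtain ⟨k, h1, h2⟩ := Nat.chineseRemainder hco 0 1
  refine ⟨k, ?_⟩
  rw [hab.mul_pow]
  have h3 : a ^ k = 1 := by
    obtain ⟨c, hc⟩ := (Nat.modEq_zero_iff_dvd.1 h1)
    rw [hc, pow_mul, hm, one_pow]
  have h4 : b ^ k = b := by
    conv_rhs => rw [← pow_one b]
    rw [pow_eq_pow_iff_modEq]
    exact h2.of_dvd (orderOf_dvd_of_pow_eq_one hn)
  rw [h3, h4, one_mul]

theorem exists_pow_left {G : Type*} [Group G] {a b : G} (hab : Commute a b) {m n : ℕ} (hm : a ^ m = 1) (hn : b ^ n = 1)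
    (hco : Nat.Coprime m n) : ∃ k, (a * b) ^ k = a := by
  rw [hab.eq]
  exact exists_pow_right hab.symm hn hm hco.symm

variable {F : Type u} [Field F] [Fintype F] {p f : ℕ}

/-- elements of prime order `l` (exponent 4 or 6) in `Sp_6(q)` -/
theorem PP.exists_sp {k l : ℕ} (h : PP p f k l) (hf : 1 ≤ f) (hF : Nat.card F = p ^ f) (hk : k = 4 ∨ k = 6) :
    ∃ x : Matrix.symplecticGroup (Fin 3) F, orderOf x = l := by
  have := Fact.mk h.prime
  apply exists_prime_orderOf_dvd_card'
  rw [S0245.result (q := p ^ f) (by rw [← Nat.card_eq_fintype_card]; exact hF) 3]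
  apply Dvd.dvd.mul_left
  rw [Finset.prod_range_succ, Finset.prod_range_succ, Finset.prod_range_one]
  rcases hk with rfl | rfl
  · apply Dvd.dvd.mul_right
    apply Dvd.dvd.mul_left
    rw [h.pow_iff hf]
  · apply Dvd.dvd.mul_left
    rw [h.pow_iff hf]

theorem spToGL_inj {m : ℕ} : Function.Injective (spToGL m F) := by
  intro a b h
  apply Subtype.ext
  exact congrArg (fun g : GL (Fin m ⊕ Fin m) F => (g : Matrix (Fin m ⊕ Fin m) (Fin m ⊕ Fin m) F)) h

omit [Fintype F] in
/-- powers of a transvection -/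
theorem transv_pow (v : Fin 3 ⊕ Fin 3 → F) (n : ℕ) : (transv v (1 : F)) ^ n = transv v (n : F) := by
  induction n with
  | zero =>
    apply Subtype.ext
    rw [pow_zero, coe_transv, Nat.cast_zero, sympTransvection_zero]
    rfl
  | succ n ih =>
    apply Subtype.ext
    rw [pow_succ, ih, coe_transv]
    have := sympTransvection_mul v (n : F) 1
    rw [Nat.cast_succ, ← this]
    rfl

/-- the fixed space of a transvection -/
theorem finrank_ker_transv {v : Fin 3 ⊕ Fin 3 → F} (hv : v ≠ 0) :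
    finrank F (LinearMap.ker (Polynomial.aeval (Matrix.toLin' ((spToGL 3 F (transv v (1 : F)) :
      GL (Fin 3 ⊕ Fin 3) F) : Matrix (Fin 3 ⊕ Fin 3) (Fin 3 ⊕ Fin 3) F)) (Polynomial.X - 1 : Polynomial F))) = 5 := by
  have h1 : LinearMap.ker (Polynomial.aeval (Matrix.toLin' ((spToGL 3 F (transv v (1 : F)) :
      GL (Fin 3 ⊕ Fin 3) F) : Matrix (Fin 3 ⊕ Fin 3) (Fin 3 ⊕ Fin 3) F)) (Polynomial.X - 1 : Polynomial F)) =
      LinearMap.ker (sympBilin 3 F v) := by
    ext x
    rw [LinearMap.mem_ker, LinearMap.mem_ker, map_sub, Polynomial.aeval_X, map_one, LinearMap.sub_apply,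
      Matrix.toLin'_apply, sympBilin_apply]
    change sympTransvection 3 v 1 *ᵥ x - x = 0 ↔ _
    rw [sympTransvection_mulVec, add_sub_cancel_left, one_mul, smul_eq_zero, or_iff_left hv, sympForm_swap x v,
      neg_eq_zero]
  rw [h1]
  have h2 : sympBilin 3 F v ≠ 0 := by
    intro h
    apply hv
    exact eq_zero_of_forall_sympForm_right fun x => LinearMap.congr_fun h x
  have h3 := Module.Dual.finrank_ker_add_one_of_ne_zero (f := sympBilin 3 F v) h2
  rw [finrank_fintype_fun_eq_card] at h3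
  have h4 : Fintype.card (Fin 3 ⊕ Fin 3) = 6 := rfl
  omega

/-- **the element `b`**: powers of order `s` and a transvection -/
theorem exists_b (hp : p.Prime) (hf : 1 ≤ f) (hF : Nat.card F = p ^ f) {s : ℕ} (hs : PP p f 4 s) :
    ∃ b : Matrix.symplecticGroup (Fin 3) F, (∃ k, orderOf (b ^ k) = s) ∧
      ∃ (k : ℕ) (t : Matrix.symplecticGroup (Fin 3) F), b ^ k = t ∧ orderOf t = p ∧
        finrank F (LinearMap.ker (Polynomial.aeval (Matrix.toLin' ((spToGL 3 F t : GL (Fin 3 ⊕ Fin 3) F) :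
          Matrix (Fin 3 ⊕ Fin 3) (Fin 3 ⊕ Fin 3) F)) (Polynomial.X - 1 : Polynomial F))) = 5 := by
  obtain ⟨x, hx⟩ := hs.exists_sp (F := F) hf hF (Or.inl rfl)
  have hxs : x ^ s = 1 := by rw [← hx, pow_orderOf_eq_one]
  have hx1 : x ≠ 1 := by
    rintro rfl
    rw [orderOf_one] at hx
    exact hs.prime.one_lt.ne hx
  have hfx : finrank F (fx (spToGL 3 F x)) = 2 := by
    apply four_fx hs hf hF
    · rw [← map_pow, hxs, map_one]
    · intro h
      apply hx1
      exact spToGL_inj (h.trans (map_one _).symm)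
  have hne : fx (spToGL 3 F x) ≠ ⊥ := by
    intro h
    rw [h, finrank_bot] at hfx
    omega
  obtain ⟨v, hv, hv0⟩ := (Submodule.ne_bot_iff _).1 hne
  have hcomm : Commute x (transv v (1 : F)) := by
    apply Subtype.ext
    change (x : Matrix (Fin 3 ⊕ Fin 3) (Fin 3 ⊕ Fin 3) F) * sympTransvection 3 v 1 =
      sympTransvection 3 v 1 * (x : Matrix (Fin 3 ⊕ Fin 3) (Fin 3 ⊕ Fin 3) F)
    rw [mul_sympTransvection x.2]
    have h1 : (x : Matrix (Fin 3 ⊕ Fin 3) (Fin 3 ⊕ Fin 3) F) *ᵥ v = v := hv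
    rw [h1]
  have hch : (p : F) = 0 := by
    obtain ⟨c, hc⟩ := CharP.exists F
    obtain ⟨k, hcp, hk⟩ := FiniteField.card F c
    have h3 : c = p := char_eq hp hF hcp
    rw [← h3]
    exact CharP.cast_eq_zero F c
  have ht : (transv v (1 : F)) ^ p = 1 := by
    rw [transv_pow, hch]
    apply Subtype.ext
    rw [coe_transv, sympTransvection_zero]
    rfl
  have hto : orderOf (transv v (1 : F)) = p := by
    have := Fact.mk hp
    apply orderOf_eq_prime ht
    intro h
    have h2 := finrank_ker_transv (F := F) hv0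
    rw [h, map_one, Units.val_one, Matrix.toLin'_one, map_sub, Polynomial.aeval_X, map_one] at h2
    have h3 : (LinearMap.id : (Fin 3 ⊕ Fin 3 → F) →ₗ[F] (Fin 3 ⊕ Fin 3 → F)) - 1 = 0 := sub_self _
    rw [h3, LinearMap.ker_zero, finrank_top, finrank_fintype_fun_eq_card] at h2
    have h4 : Fintype.card (Fin 3 ⊕ Fin 3) = 6 := rfl
    omega
  have hco : Nat.Coprime s p := (Nat.coprime_primes hs.prime hp).2 (hs.ne_char hp)
  obtain ⟨k1, hk1⟩ := exists_pow_left hcomm hxs ht hco
  obtain ⟨k2, hk2⟩ := exists_pow_right hcomm hxs ht hco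
  exact ⟨x * transv v 1, ⟨k1, by rw [hk1, hx]⟩, k2, _, hk2, hto, finrank_ker_transv hv0⟩

end Cfsg.Agent.H109.Cov
end

-- part: H109/Cov/ElA
section
/-!
# S2499, `PSp_6(q)`: the tensor element `z = h ⊗ j` (helper109)

`h ∈ SL_2(q)` without eigenvectors, `j` regular unipotent in `SO_3(q)`: `z` has order divisible by `p`, a power of `z`
is unipotent with fixed space of dimension 2; a `z`-invariant space of dimension at most 2 is 0 or a totally singular
2-space.
-/

set_option autoImplicit false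

namespace Cfsg.Agent.H109.Cov

open Cfsg Cfsg.Geo Module Cfsg.Agent.ClassicalGeometry.SympBasic
open Cfsg.Agent.H876 (spToGL)
open scoped Matrix MatrixGroups

universe u

section phi

variable {F : Type u} [Field F]

/-- `h ⊗ 1` -/
def phiMat (h : Matrix (Fin 2) (Fin 2) F) : Matrix (Fin 3 ⊕ Fin 3) (Fin 3 ⊕ Fin 3) F :=
  Matrix.fromBlocks (h 0 0 • 1) (h 0 1 • 1) (h 1 0 • 1) (h 1 1 • 1)

theorem phiMat_mul (g h : Matrix (Fin 2) (Fin 2) F) : phiMat (g * h) = phiMat g * phiMat h := by
  unfold phiMat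
  rw [Matrix.fromBlocks_multiply]
  simp only [Matrix.smul_mul, Matrix.mul_smul, Matrix.one_mul, smul_smul, ← add_smul, Matrix.mul_apply,
    Fin.sum_univ_two]
  congr 1 <;> congr 1 <;> ring

theorem phiMat_one : phiMat (1 : Matrix (Fin 2) (Fin 2) F) = 1 := by
  unfold phiMat
  simp [Matrix.one_apply, Matrix.fromBlocks_one]

/-- `1 ⊗ j` -/
def psiMat (j : Matrix (Fin 3) (Fin 3) F) : Matrix (Fin 3 ⊕ Fin 3) (Fin 3 ⊕ Fin 3) F := Matrix.fromBlocks j 0 0 j

theorem phi_psi_comm (h : Matrix (Fin 2) (Fin 2) F) (j : Matrix (Fin 3) (Fin 3) F) :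
    phiMat h * psiMat j = psiMat j * phiMat h := by
  unfold phiMat psiMat
  rw [Matrix.fromBlocks_multiply, Matrix.fromBlocks_multiply]
  simp [Matrix.smul_mul, Matrix.mul_smul]

theorem phi_mem (h : Matrix.SpecialLinearGroup (Fin 2) F) :
    phiMat (h : Matrix (Fin 2) (Fin 2) F) ∈ Matrix.symplecticGroup (Fin 3) F := by
  rw [SymplecticGroup.mem_iff]
  have hd : (h : Matrix (Fin 2) (Fin 2) F) 0 0 * (h : Matrix (Fin 2) (Fin 2) F) 1 1 -
      (h : Matrix (Fin 2) (Fin 2) F) 0 1 * (h : Matrix (Fin 2) (Fin 2) F) 1 0 = 1 := by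
    rw [← Matrix.det_fin_two, Matrix.SpecialLinearGroup.det_coe]
  unfold phiMat Matrix.J
  rw [Matrix.fromBlocks_transpose, Matrix.fromBlocks_multiply, Matrix.fromBlocks_multiply]
  simp only [Matrix.transpose_smul, Matrix.transpose_one, Matrix.smul_mul, Matrix.mul_smul, Matrix.one_mul,
    Matrix.mul_one, Matrix.mul_zero, Matrix.zero_mul, add_zero, zero_add, Matrix.mul_neg, Matrix.neg_mul, smul_neg,
    smul_smul, ← neg_smul, ← add_smul]
  congr 1
  · rw [show ∀ x y : F, x * y + y * -x = 0 from fun x y => by ring, zero_smul]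
  · rw [show (h : Matrix (Fin 2) (Fin 2) F) 1 0 * (h : Matrix (Fin 2) (Fin 2) F) 0 1 +
      (h : Matrix (Fin 2) (Fin 2) F) 1 1 * -(h : Matrix (Fin 2) (Fin 2) F) 0 0 = -1 by linear_combination -hd,
      neg_smul, one_smul]
  · rw [show (h : Matrix (Fin 2) (Fin 2) F) 0 0 * (h : Matrix (Fin 2) (Fin 2) F) 1 1 +
      (h : Matrix (Fin 2) (Fin 2) F) 0 1 * -(h : Matrix (Fin 2) (Fin 2) F) 1 0 = 1 by linear_combination hd, one_smul]
  · rw [show ∀ x y : F, x * y + y * -x = 0 from fun x y => by ring, zero_smul]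

/-- `h ↦ h ⊗ 1` -/
def phi : Matrix.SpecialLinearGroup (Fin 2) F →* Matrix.symplecticGroup (Fin 3) F where
  toFun h := ⟨phiMat (h : Matrix (Fin 2) (Fin 2) F), phi_mem h⟩
  map_one' := Subtype.ext phiMat_one
  map_mul' g h := Subtype.ext (phiMat_mul _ _)

theorem psi_mem {j : Matrix (Fin 3) (Fin 3) F} (hj : j * jᵀ = 1) : psiMat j ∈ Matrix.symplecticGroup (Fin 3) F := by
  rw [SymplecticGroup.mem_iff]
  unfold psiMat Matrix.J
  rw [Matrix.fromBlocks_transpose, Matrix.fromBlocks_multiply, Matrix.fromBlocks_multiply]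
  simp [hj]

/-- `1 ⊗ j` in the symplectic group -/
def psi (j : Matrix (Fin 3) (Fin 3) F) (hj : j * jᵀ = 1) : Matrix.symplecticGroup (Fin 3) F := ⟨psiMat j, psi_mem hj⟩

theorem commute_phi_psi (h : Matrix.SpecialLinearGroup (Fin 2) F) (j : Matrix (Fin 3) (Fin 3) F) (hj : j * jᵀ = 1) :
    Commute (phi h) (psi j hj) := Subtype.ext (phi_psi_comm _ _)

theorem psiMat_pow (j : Matrix (Fin 3) (Fin 3) F) (n : ℕ) : psiMat j ^ n = psiMat (j ^ n) :=
  Matrix.fromBlocks_diagonal_pow _ _ _

/-! ### the unipotent element of `SO_3` -/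

/-- `N v = w × v`, `w = (a, b, 1)` -/
def nMat (a b : F) : Matrix (Fin 3) (Fin 3) F := !![0, -1, b; 1, 0, -a; -b, a, 0]

/-- `j = 1 + N + N² / 2` -/
noncomputable def jMat (a b : F) : Matrix (Fin 3) (Fin 3) F := 1 + nMat a b + (2⁻¹ : F) • (nMat a b * nMat a b)

theorem nMat_transpose (a b : F) : (nMat a b)ᵀ = - nMat a b := by
  unfold nMat
  ext i j
  (revert i j; simp only [_root_.Fin.forall_fin_succ, _root_.Matrix.transpose_apply, _root_.Matrix.of_apply, _root_.Matrix.cons_val', _root_.Matrix.cons_val_fin_one, _root_.Matrix.neg_apply, Fin.isValue, _root_.Matrix.cons_val_zero, _root_.Matrix.cons_val_succ, _root_.forall_const, _root_.neg_zero, _root_.neg_neg, _root_.and_self, _root_.implies_true])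

theorem nMat_sq {a b : F} (h : a ^ 2 + b ^ 2 = -1) :
    nMat a b * nMat a b = !![a * a, a * b, a; b * a, b * b, b; a, b, 1] := by
  unfold nMat
  ext i j
  (revert i j; simp only [Matrix.mul_apply, Fin.sum_univ_three, _root_.Fin.forall_fin_succ, _root_.Matrix.of_apply, _root_.Matrix.cons_val', _root_.Matrix.cons_val_fin_one, Fin.isValue, _root_.Matrix.cons_val_zero, _root_.Matrix.cons_val_one, _root_.Matrix.cons_val, _root_.MulZeroClass.mul_zero, _root_.mul_one, _root_.zero_add, _root_.mul_neg, _root_.Matrix.cons_val_succ, _root_.add_zero, _root_.forall_const, _root_.neg_zero, _root_.MulZeroClass.zero_mul, _root_.neg_mul, _root_.one_mul, _root_.neg_neg, _root_.and_true, _root_.true_and]) <;> (repeat' with_reducible apply And.intro) <;>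
    first | ring1 | linear_combination h | linear_combination -h

theorem nMat_cube {a b : F} (h : a ^ 2 + b ^ 2 = -1) : nMat a b * nMat a b * nMat a b = 0 := by
  rw [nMat_sq h]
  unfold nMat
  ext i j
  (revert i j; simp only [Matrix.mul_apply, Fin.sum_univ_three, _root_.Fin.forall_fin_succ, _root_.Matrix.of_apply, _root_.Matrix.cons_val', _root_.Matrix.cons_val_fin_one, Fin.isValue, _root_.Matrix.cons_val_zero, _root_.Matrix.cons_val_one, _root_.Matrix.cons_val, _root_.Matrix.zero_apply, _root_.MulZeroClass.mul_zero, _root_.mul_one, _root_.zero_add, _root_.mul_neg, _root_.Matrix.cons_val_succ, _root_.add_zero, _root_.forall_const, _root_.add_neg_cancel, _root_.neg_add_cancel, _root_.true_and, _root_.one_mul]) <;> (repeat' with_reducible apply And.intro) <;> ring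

theorem jMat_orth {a b : F} (h : a ^ 2 + b ^ 2 = -1) (h2 : (2 : F) ≠ 0) : jMat a b * (jMat a b)ᵀ = 1 := by
  have h3 := nMat_cube h
  have ht : (jMat a b)ᵀ = 1 - nMat a b + (2⁻¹ : F) • (nMat a b * nMat a b) := by
    unfold jMat
    rw [Matrix.transpose_add, Matrix.transpose_add, Matrix.transpose_one, Matrix.transpose_smul,
      Matrix.transpose_mul, nMat_transpose, Matrix.neg_mul, Matrix.mul_neg, neg_neg, sub_eq_add_neg]
  rw [ht]
  unfold jMat
  set N := nMat a b with hN
  have h4 : N * (N * N) = 0 := by rw [← Matrix.mul_assoc, h3]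
  have h5 : (2⁻¹ : F) + 2⁻¹ = 1 := by rw [← two_mul, mul_inv_cancel₀ h2]
  have h6 : (1 + N + (2⁻¹ : F) • (N * N)) * (1 - N + (2⁻¹ : F) • (N * N)) =
      1 + ((2⁻¹ : F) + 2⁻¹) • (N * N) - N * N := by
    simp only [Matrix.add_mul, Matrix.mul_add, Matrix.mul_sub, Matrix.one_mul, Matrix.mul_one,
      Matrix.smul_mul, Matrix.mul_smul, Matrix.mul_assoc, h4, Matrix.mul_zero, smul_zero, add_smul]
    abel
  rw [h6, h5, one_smul, add_sub_cancel_right]

theorem jMat_sub_sq {a b : F} (h : a ^ 2 + b ^ 2 = -1) :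
    (jMat a b - 1) * (jMat a b - 1) = nMat a b * nMat a b := by
  have h3 := nMat_cube h
  unfold jMat
  set N := nMat a b with hN
  have h4 : N * (N * N) = 0 := by rw [← Matrix.mul_assoc, h3]
  have h5 : 1 + N + (2⁻¹ : F) • (N * N) - 1 = N + (2⁻¹ : F) • (N * N) := by abel
  rw [h5]
  simp only [Matrix.add_mul, Matrix.mul_add, Matrix.smul_mul, Matrix.mul_smul, smul_smul]
  rw [h3, Matrix.mul_assoc N N (N * N), h4, Matrix.mul_zero]
  simp

theorem jMat_sub_cube {a b : F} (h : a ^ 2 + b ^ 2 = -1) : (jMat a b - 1) ^ 3 = 0 := by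
  have h3 := nMat_cube h
  rw [pow_succ, pow_two, jMat_sub_sq h]
  unfold jMat
  set N := nMat a b with hN
  have h4 : N * (N * N) = 0 := by rw [← Matrix.mul_assoc, h3]
  have h5 : 1 + N + (2⁻¹ : F) • (N * N) - 1 = N + (2⁻¹ : F) • (N * N) := by abel
  rw [h5, Matrix.mul_add, Matrix.mul_smul, h3, Matrix.mul_assoc N N (N * N), h4, Matrix.mul_zero, smul_zero, add_zero]

theorem jMat_pow {a b : F} (h : a ^ 2 + b ^ 2 = -1) {p : ℕ} (hp : p.Prime) (hp3 : 3 ≤ p) (hc : (p : F) = 0) :
    jMat a b ^ p = 1 := by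
  have := Fact.mk hp
  have hch : CharP F p := by
    obtain ⟨c, hc'⟩ := CharP.exists F
    have h1 : c ∣ p := (CharP.cast_eq_zero_iff F c p).1 hc
    rcases (Nat.dvd_prime hp).1 h1 with h2 | h2
    · exact absurd h2 (CharP.char_ne_one F c)
    · rwa [← h2]
  have h1 : jMat a b = 1 + (jMat a b - 1) := by abel
  rw [h1, add_pow_char_of_commute p (Commute.one_left _), one_pow]
  have h2 : (jMat a b - 1) ^ p = 0 := by
    obtain ⟨c, rfl⟩ := Nat.exists_eq_add_of_le hp3
    rw [pow_add, jMat_sub_cube h, zero_mul]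
  rw [h2, add_zero]

/-- the fixed vectors of `j` -/
theorem jMat_fix {a b : F} (h : a ^ 2 + b ^ 2 = -1) (x : Fin 3 → F) :
    jMat a b *ᵥ x = x ↔ x = x 2 • ![a, b, 1] := by
  have h3 := nMat_cube h
  have key : nMat a b *ᵥ x = 0 ↔ x = x 2 • ![a, b, 1] := by
    constructor
    · intro hx
      have e0 := congrFun hx 0
      have e1 := congrFun hx 1
      simp only [nMat, Matrix.mulVec, dotProduct, Fin.sum_univ_three, _root_.Fin.isValue, _root_.Matrix.of_apply, _root_.Matrix.cons_val', _root_.Matrix.cons_val_fin_one, _root_.Matrix.cons_val_zero, _root_.MulZeroClass.zero_mul, _root_.Matrix.cons_val_one, _root_.neg_mul, _root_.one_mul, _root_.zero_add, _root_.Matrix.cons_val, _root_.Pi.zero_apply, _root_.add_zero] at e0 e1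
      funext i
      fin_cases i
      · simp
        linear_combination e1
      · simp
        linear_combination -e0
      · simp
    · intro hx
      rw [hx, Matrix.mulVec_smul]
      have : nMat a b *ᵥ ![a, b, 1] = 0 := by
        funext i
        (revert i; simp only [nMat, Matrix.mulVec, dotProduct, Fin.sum_univ_three, _root_.Fin.forall_fin_succ, _root_.Matrix.of_apply, _root_.Matrix.cons_val', _root_.Matrix.cons_val_fin_one, Fin.isValue, _root_.Matrix.cons_val_zero, _root_.Matrix.cons_val_one, _root_.Matrix.cons_val, _root_.mul_one, _root_.Pi.zero_apply, _root_.MulZeroClass.zero_mul, _root_.neg_mul, _root_.one_mul, _root_.zero_add, _root_.neg_add_cancel, _root_.Matrix.cons_val_succ, _root_.add_zero, _root_.add_neg_cancel, _root_.forall_const, _root_.true_and]) <;> (repeat' with_reducible apply And.intro) <;> ring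
      rw [this, smul_zero]
  rw [← key]
  have hj : jMat a b *ᵥ x = x + nMat a b *ᵥ x + (2⁻¹ : F) • (nMat a b *ᵥ (nMat a b *ᵥ x)) := by
    unfold jMat
    rw [Matrix.add_mulVec, Matrix.add_mulVec, Matrix.one_mulVec, Matrix.smul_mulVec, Matrix.mulVec_mulVec]
  constructor
  · intro hx
    rw [hj] at hx
    have h4 : nMat a b *ᵥ x + (2⁻¹ : F) • (nMat a b *ᵥ (nMat a b *ᵥ x)) = 0 := by
      have h5 : x + (nMat a b *ᵥ x + (2⁻¹ : F) • (nMat a b *ᵥ (nMat a b *ᵥ x))) = x + 0 := by
        rw [add_zero, ← add_assoc]; exact hx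
      exact add_left_cancel h5
    have h5 : nMat a b *ᵥ (nMat a b *ᵥ x) = 0 := by
      have h6 := congrArg (fun v => nMat a b *ᵥ v) h4
      simp only [Matrix.mulVec_add, Matrix.mulVec_smul, Matrix.mulVec_zero] at h6
      have h7 : nMat a b *ᵥ (nMat a b *ᵥ (nMat a b *ᵥ x)) = 0 := by
        rw [Matrix.mulVec_mulVec, Matrix.mulVec_mulVec, h3, Matrix.zero_mulVec]
      rwa [h7, smul_zero, add_zero] at h6
    rwa [h5, smul_zero, add_zero] at h4
  · intro hx
    rw [hj, hx, Matrix.mulVec_zero, smul_zero, add_zero, add_zero]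

end phi

end Cfsg.Agent.H109.Cov
end

-- part: H109/Cov/ElB
section
/-!
# S2499, `PSp_6(q)`: the element `z = h ⊗ j`, its invariant subspaces (helper109)

* `exists_h` : an element of `SL_2(q)` of order prime to `p` without eigenvectors;
* `exists_z` : the element `z`.
-/

set_option autoImplicit false

namespace Cfsg.Agent.H109.Cov

open Cfsg Cfsg.Geo Module Cfsg.Agent.ClassicalGeometry.SympBasic
open Cfsg.Agent.H876 (spToGL)
open scoped Matrix MatrixGroups

universe u

section tens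

variable {F : Type u} [Field F]

/-- `c ↦ c ⊗ w` -/
def tens (w : Fin 3 → F) : (Fin 2 → F) →ₗ[F] (Fin 3 ⊕ Fin 3 → F) where
  toFun c := Sum.elim (c 0 • w) (c 1 • w)
  map_add' c d := by
    funext i
    rcases i with i | i <;> simp only [add_mul, _root_.Fin.isValue, _root_.Pi.add_apply, _root_.Sum.elim_inl, _root_.Pi.smul_apply, _root_.smul_eq_mul, _root_.Sum.elim_inr]
  map_smul' r c := by
    funext i
    rcases i with i | i <;> simp [mul_assoc]

theorem tens_apply (w : Fin 3 → F) (c : Fin 2 → F) : tens w c = Sum.elim (c 0 • w) (c 1 • w) := rfl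

theorem tens_inj {w : Fin 3 → F} (hw : w 2 = 1) : Function.Injective (tens w) := by
  intro c d h
  have h0 := congrFun h (Sum.inl 2)
  have h1 := congrFun h (Sum.inr 2)
  simp [tens_apply, hw] at h0 h1
  funext i
  fin_cases i
  · exact h0
  · exact h1

theorem phi_tens (h : Matrix (Fin 2) (Fin 2) F) (w : Fin 3 → F) (c : Fin 2 → F) :
    phiMat h *ᵥ tens w c = tens w (h *ᵥ c) := by
  unfold phiMat
  rw [Matrix.fromBlocks_mulVec, tens_apply, tens_apply]
  funext i
  rcases i with i | i <;>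
  simp only [Matrix.smul_mulVec, Matrix.mulVec, dotProduct, Fin.sum_univ_two, Matrix.one_apply, _root_.Fin.isValue, _root_.Sum.elim_comp_inl, _root_.Matrix.one_mulVec, _root_.Sum.elim_comp_inr, _root_.Sum.elim_inl, _root_.Pi.add_apply, _root_.Pi.smul_apply, _root_.smul_eq_mul, _root_.Sum.elim_inr] <;> ring

theorem psi_fix_iff {a b : F} (h : a ^ 2 + b ^ 2 = -1) (x : Fin 3 ⊕ Fin 3 → F) :
    psiMat (jMat a b) *ᵥ x = x ↔ x ∈ LinearMap.range (tens ![a, b, 1]) := by
  unfold psiMat
  rw [Matrix.fromBlocks_mulVec, Matrix.zero_mulVec, Matrix.zero_mulVec, add_zero, zero_add]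
  constructor
  · intro hx
    have e0 : jMat a b *ᵥ (x ∘ Sum.inl) = x ∘ Sum.inl := by
      funext i
      exact congrFun hx (Sum.inl i)
    have e1 : jMat a b *ᵥ (x ∘ Sum.inr) = x ∘ Sum.inr := by
      funext i
      exact congrFun hx (Sum.inr i)
    rw [jMat_fix h] at e0 e1
    refine ⟨![x (Sum.inl 2), x (Sum.inr 2)], ?_⟩
    funext i
    rcases i with i | i
    · exact (congrFun e0 i).symm
    · exact (congrFun e1 i).symm
  · rintro ⟨c, rfl⟩
    have e0 : jMat a b *ᵥ (tens ![a, b, 1] c ∘ Sum.inl) = tens ![a, b, 1] c ∘ Sum.inl := by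
      rw [jMat_fix h]
      funext i
      (revert i; simp only [tens_apply, _root_.Fin.forall_fin_succ, Fin.isValue, _root_.Matrix.smul_cons, _root_.smul_eq_mul, _root_.mul_one, _root_.Matrix.smul_empty, _root_.Function.comp_apply, _root_.Sum.elim_inl, _root_.Nat.succ_eq_add_one, Nat.reduceAdd, _root_.Matrix.cons_val, _root_.Pi.smul_apply, _root_.Matrix.cons_val_zero, _root_.Matrix.cons_val_succ, _root_.Matrix.cons_val_fin_one, _root_.implies_true, _root_.and_self])
    have e1 : jMat a b *ᵥ (tens ![a, b, 1] c ∘ Sum.inr) = tens ![a, b, 1] c ∘ Sum.inr := by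
      rw [jMat_fix h]
      funext i
      (revert i; simp only [tens_apply, _root_.Fin.forall_fin_succ, Fin.isValue, _root_.Matrix.smul_cons, _root_.smul_eq_mul, _root_.mul_one, _root_.Matrix.smul_empty, _root_.Function.comp_apply, _root_.Sum.elim_inr, _root_.Nat.succ_eq_add_one, Nat.reduceAdd, _root_.Matrix.cons_val, _root_.Pi.smul_apply, _root_.Matrix.cons_val_zero, _root_.Matrix.cons_val_succ, _root_.Matrix.cons_val_fin_one, _root_.implies_true, _root_.and_self])
    rw [e0, e1]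
    exact Sum.elim_comp_inl_inr _

theorem tens_ts {w : Fin 3 → F} (hw : w ⬝ᵥ w = 0) (c d : Fin 2 → F) : sympForm 3 F (tens w c) (tens w d) = 0 := by
  rw [sympForm_eq_sum]
  have h1 : ∀ i, tens w c (Sum.inr i) * tens w d (Sum.inl i) - tens w c (Sum.inl i) * tens w d (Sum.inr i) =
      (c 1 * d 0 - c 0 * d 1) * (w i * w i) := by
    intro i
    simp [tens_apply]
    ring
  rw [Finset.sum_congr rfl fun i _ => h1 i, ← Finset.mul_sum]
  have : ∑ i, w i * w i = 0 := hw
  rw [this, mul_zero]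

/-- an invariant subspace of dimension at most 2 of `z` -/
theorem inv_sub {a b : F} (hab : a ^ 2 + b ^ 2 = -1) {h : Matrix (Fin 2) (Fin 2) F}
    (hh : ∀ (c : Fin 2 → F) (r : F), h *ᵥ c = r • c → c = 0) {z u : GL (Fin 3 ⊕ Fin 3) F} {k : ℕ} (hzu : z ^ k = u)
    (hz : (z : Matrix (Fin 3 ⊕ Fin 3) (Fin 3 ⊕ Fin 3) F) = phiMat h * psiMat (jMat a b))
    (hu : (u : Matrix (Fin 3 ⊕ Fin 3) (Fin 3 ⊕ Fin 3) F) = psiMat (jMat a b))
    {X : Submodule F (Fin 3 ⊕ Fin 3 → F)} (hX : Inv z X) (hX0 : X ≠ ⊥) (hX2 : finrank F X ≤ 2) :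
    finrank F X = 2 ∧ IsTotallySingularFor (sympForm 3 F) X := by
  set w : Fin 3 → F := ![a, b, 1] with hw
  have hw2 : w 2 = 1 := by simp [hw]
  have hinj := tens_inj hw2
  have hXu : Inv u X := by rw [← hzu]; exact hX.pow k
  -- a fixed vector of u
  have hcube : ∀ v : Fin 3 ⊕ Fin 3 → F, (psiMat (jMat a b) - 1) *ᵥ ((psiMat (jMat a b) - 1) *ᵥ
      ((psiMat (jMat a b) - 1) *ᵥ v)) = 0 := by
    intro v
    rw [Matrix.mulVec_mulVec, Matrix.mulVec_mulVec]
    have h1 : psiMat (jMat a b) - 1 = psiMat (jMat a b - 1) := by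
      unfold psiMat
      rw [← Matrix.fromBlocks_one, sub_eq_add_neg, Matrix.fromBlocks_neg, Matrix.fromBlocks_add]
      simp [sub_eq_add_neg]
    have h2 : (psiMat (jMat a b) - 1) ^ 3 = 0 := by
      rw [h1, psiMat_pow, jMat_sub_cube hab]
      unfold psiMat
      exact Matrix.fromBlocks_zero
    have h3 : (psiMat (jMat a b) - 1) * (psiMat (jMat a b) - 1) * (psiMat (jMat a b) - 1) = 0 := by
      rw [← h2, pow_succ, pow_two]
    rw [h3, Matrix.zero_mulVec]
  have hE : ∀ v ∈ X, (psiMat (jMat a b) - 1) *ᵥ v ∈ X := by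
    intro v hv
    rw [Matrix.sub_mulVec, Matrix.one_mulVec]
    apply X.sub_mem _ hv
    rw [← hu]
    exact hXu v hv
  have hfix : ∀ v, (psiMat (jMat a b) - 1) *ᵥ v = 0 → v ∈ LinearMap.range (tens w) := by
    intro v hv
    rw [Matrix.sub_mulVec, Matrix.one_mulVec, sub_eq_zero] at hv
    exact (psi_fix_iff hab v).1 hv
  obtain ⟨v, hv, hv0, c, hc⟩ : ∃ v ∈ X, v ≠ 0 ∧ v ∈ LinearMap.range (tens w) := by
    obtain ⟨v, hv, hv0⟩ := (Submodule.ne_bot_iff _).1 hX0
    by_cases h1 : (psiMat (jMat a b) - 1) *ᵥ v = 0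
    · exact ⟨v, hv, hv0, hfix _ h1⟩
    by_cases h2 : (psiMat (jMat a b) - 1) *ᵥ ((psiMat (jMat a b) - 1) *ᵥ v) = 0
    · exact ⟨_, hE _ hv, h1, hfix _ h2⟩
    · exact ⟨_, hE _ (hE _ hv), h2, hfix _ (hcube v)⟩
  have hc0 : c ≠ 0 := by
    rintro rfl
    rw [map_zero] at hc
    exact hv0 hc.symm
  have hzt : ∀ d, (z : Matrix (Fin 3 ⊕ Fin 3) (Fin 3 ⊕ Fin 3) F) *ᵥ tens w d = tens w (h *ᵥ d) := by
    intro d
    rw [hz, ← Matrix.mulVec_mulVec, (psi_fix_iff hab (tens w d)).2 ⟨d, rfl⟩, phi_tens]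
  set C : Submodule F (Fin 2 → F) := X.comap (tens w) with hC
  have hcC : c ∈ C := by rw [hC, Submodule.mem_comap, hc]; exact hv
  have hCinv : ∀ d ∈ C, h *ᵥ d ∈ C := by
    intro d hd
    rw [hC, Submodule.mem_comap] at hd ⊢
    rw [← hzt]
    exact hX _ hd
  have hCtop : C = ⊤ := by
    by_contra hne
    have h1 : finrank F C < 2 := by
      have := Submodule.finrank_lt_finrank_of_lt (lt_top_iff_ne_top.2 hne)
      rwa [finrank_top, finrank_fintype_fun_eq_card, Fintype.card_fin] at this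
    have h2 : finrank F C ≤ 1 := by omega
    obtain ⟨⟨e, he⟩, hgen⟩ := finrank_le_one_iff.1 h2
    obtain ⟨r1, hr1⟩ := hgen ⟨c, hcC⟩
    obtain ⟨r2, hr2⟩ := hgen ⟨h *ᵥ c, hCinv c hcC⟩
    have hr1' : r1 • e = c := congrArg Subtype.val hr1
    have hr2' : r2 • e = h *ᵥ c := congrArg Subtype.val hr2
    have hr10 : r1 ≠ 0 := by
      rintro rfl
      rw [zero_smul] at hr1'
      exact hc0 hr1'.symm
    apply hc0
    apply hh c (r2 * r1⁻¹)
    rw [← hr2', ← hr1', smul_smul, mul_assoc, inv_mul_cancel₀ hr10, mul_one]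
  have hle : LinearMap.range (tens w) ≤ X := by
    rintro _ ⟨d, rfl⟩
    have : d ∈ C := by rw [hCtop]; trivial
    exact this
  have hr : finrank F (LinearMap.range (tens w)) = 2 := by
    rw [LinearMap.finrank_range_of_inj hinj, finrank_fintype_fun_eq_card, Fintype.card_fin]
  have h2 := Submodule.finrank_mono hle
  have h3 : LinearMap.range (tens w) = X := Submodule.eq_of_le_of_finrank_eq hle (by omega)
  refine ⟨by omega, ?_⟩
  rw [← h3]
  rintro _ ⟨d, rfl⟩ _ ⟨e, rfl⟩
  apply tens_ts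
  simp only [hw, dotProduct, Fin.sum_univ_three, _root_.Fin.isValue, _root_.Matrix.cons_val_zero, _root_.Matrix.cons_val_one, _root_.Matrix.cons_val, _root_.mul_one]
  linear_combination hab

end tens

section exist

variable {F : Type u} [Field F] [Fintype F] {p f : ℕ}

/-- an element of `SL_2(q)` of order prime to `p` without eigenvectors -/
theorem exists_h (hp : p.Prime) (h5 : 5 ≤ p) (hf : 1 ≤ f) (hF : Nat.card F = p ^ f) :
    ∃ (h : Matrix.SpecialLinearGroup (Fin 2) F) (m : ℕ), Nat.Coprime m p ∧ h ^ m = 1 ∧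
      ∀ (c : Fin 2 → F) (r : F), (h : Matrix (Fin 2) (Fin 2) F) *ᵥ c = r • c → c = 0 := by
  classical
  have hq5 : 5 ≤ p ^ f := by
    calc 5 ≤ p := h5
      _ = p ^ 1 := (pow_one _).symm
      _ ≤ p ^ f := Nat.pow_le_pow_right (by omega) hf
  have hodd : Odd (p ^ f) := (hp.odd_of_ne_two (by omega)).pow
  have hF' : Fintype.card F = p ^ f := by rw [← Nat.card_eq_fintype_card]; exact hF
  by_cases h3 : p ^ f % 4 = 3
  · -- the element of order 4
    let h : Matrix.SpecialLinearGroup (Fin 2) F := ⟨!![0, -1; 1, 0], by simp [Matrix.det_fin_two]⟩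
    have hsq : (h : Matrix (Fin 2) (Fin 2) F) * (h : Matrix (Fin 2) (Fin 2) F) = -1 := by
      change !![(0 : F), -1; 1, 0] * !![(0 : F), -1; 1, 0] = -1
      ext i j
      (revert i j; simp only [Matrix.mul_apply, Fin.sum_univ_two, _root_.Fin.forall_fin_succ, _root_.Matrix.of_apply, _root_.Matrix.cons_val', _root_.Matrix.cons_val_fin_one, Fin.isValue, _root_.Matrix.cons_val_zero, _root_.Matrix.cons_val_one, _root_.Matrix.neg_apply, _root_.MulZeroClass.mul_zero, _root_.mul_one, _root_.zero_add, _root_.Matrix.cons_val_succ, _root_.mul_neg, _root_.add_zero, _root_.neg_inj, _root_.IsEmpty.forall_iff, _root_.and_true, _root_.Matrix.one_apply_eq, Nat.reduceAdd, _root_.Fin.succ_zero_eq_one, _root_.ne_eq, _root_.zero_ne_one, _root_.not_false_eq_true, _root_.Matrix.one_apply_ne, _root_.and_self, _root_.Fin.succ_ne_zero, _root_.neg_zero, _root_.true_and])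
    refine ⟨h, 4, ?_, ?_, ?_⟩
    · have h2 : Nat.Coprime 2 p := (Nat.coprime_primes Nat.prime_two hp).2 (by omega)
      exact Nat.Coprime.pow_left 2 h2
    · apply Subtype.ext
      rw [Matrix.SpecialLinearGroup.coe_pow, show (4 : ℕ) = 2 * 2 from rfl, pow_mul, pow_two, pow_two, hsq]
      simp
    · intro c r hc
      by_contra hc0
      have h4 : (h : Matrix (Fin 2) (Fin 2) F) *ᵥ ((h : Matrix (Fin 2) (Fin 2) F) *ᵥ c) = (r * r) • c := by
        rw [hc, Matrix.mulVec_smul, hc, smul_smul]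
      rw [Matrix.mulVec_mulVec, hsq, Matrix.neg_mulVec, Matrix.one_mulVec] at h4
      have h6 : (r * r + 1) • c = 0 := by
        rw [add_smul, one_smul, ← h4]
        exact neg_add_cancel c
      have h7 : r * r + 1 = 0 := (smul_eq_zero.1 h6).resolve_right hc0
      have h8 : IsSquare (-1 : F) := ⟨r, by linear_combination -h7⟩
      rw [FiniteField.isSquare_neg_one_iff] at h8
      exact h8 (by rw [hF']; exact h3)
  · -- an odd prime divisor of `q + 1`
    have h1 : p ^ f % 4 = 1 := by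
      rcases hodd with ⟨k, hk⟩
      omega
    obtain ⟨l, hl, hl2, hlq⟩ : ∃ l : ℕ, l.Prime ∧ l ≠ 2 ∧ l ∣ p ^ f + 1 := by
      have h2 : (p ^ f + 1) / 2 ≠ 1 := by omega
      obtain ⟨l, hl, hld⟩ := Nat.exists_prime_and_dvd h2
      refine ⟨l, hl, ?_, ?_⟩
      · rintro rfl
        omega
      · refine hld.trans ⟨2, by omega⟩
    have hlp : ¬ l ∣ p ^ f := by
      intro h
      have h2 : l ∣ 1 := (Nat.dvd_add_right h).1 hlq
      exact hl.one_lt.ne' (Nat.dvd_one.1 h2)
    have := Fact.mk hl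
    obtain ⟨h, hh⟩ := exists_prime_orderOf_dvd_card' (G := Matrix.SpecialLinearGroup (Fin 2) F) l (by
      rw [ClassicalGeometry.PSL2Basic.card_SL2, hF']
      apply Dvd.dvd.mul_left
      refine hlq.trans ⟨p ^ f - 1, ?_⟩
      have : 1 ≤ p ^ f := by omega
      zify [this, Nat.one_le_pow 2 (p ^ f) (by omega)]
      ring)
    have hhl : h ^ l = 1 := by rw [← hh, pow_orderOf_eq_one]
    have hh1 : h ≠ 1 := by
      rintro rfl
      rw [orderOf_one] at hh
      exact hl.one_lt.ne hh
    -- the primitive property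
    have hk : ∀ i, l ∣ Nat.card F ^ i - 1 → 2 ∣ i := by
      intro i hi
      by_contra hodd'
      have hoi : Odd i := by
        rcases Nat.even_or_odd i with h | h
        · exact absurd h.two_dvd hodd'
        · exact h
      rw [hF] at hi
      have h2 : l ∣ (p ^ f) ^ i + 1 := by
        have := hoi.nat_add_dvd_pow_add_pow (p ^ f) 1
        rw [one_pow] at this
        exact hlq.trans this
      have h4 : 1 ≤ (p ^ f) ^ i := Nat.one_le_pow _ _ (by omega)
      have h6 : l ∣ 2 := by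
        have h7 := Nat.dvd_sub h2 hi
        rwa [show (p ^ f) ^ i + 1 - ((p ^ f) ^ i - 1) = 2 by omega] at h7
      exact hl2 ((Nat.prime_dvd_prime_iff_eq hl Nat.prime_two).1 h6)
    let g : GL (Fin 2) F := (h : GL (Fin 2) F)
    have hgv : (g : Matrix (Fin 2) (Fin 2) F) = (h : Matrix (Fin 2) (Fin 2) F) := rfl
    have hgl : g ^ l = 1 := by
      apply Units.ext
      rw [Units.val_pow_eq_pow_val, hgv, ← Matrix.SpecialLinearGroup.coe_pow, hhl]
      rfl
    have hg1 : g ≠ 1 := by
      intro hg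
      apply hh1
      apply Subtype.ext
      exact congrArg (fun x : GL (Fin 2) F => (x : Matrix (Fin 2) (Fin 2) F)) hg
    have hfx : finrank F (fx g) = 0 := by
      have h2 := dvd_dim hl (by rw [hF]; exact hlp) hk hgl (X := ⊤) (fun _ _ => trivial)
      rw [finrank_top, finrank_fintype_fun_eq_card, Fintype.card_fin, top_inf_eq] at h2
      have h4 := finrank_fx_lt hg1
      rw [Fintype.card_fin] at h4
      omega
    refine ⟨h, l, (Nat.coprime_primes hl hp).2 (fun h => hlp (by rw [h]; exact dvd_pow_self _ (by omega))), hhl, ?_⟩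
    intro c r hc
    by_contra hc0
    have hinv : Inv g (Submodule.span F {c}) := by
      intro v hv
      obtain ⟨t, rfl⟩ := Submodule.mem_span_singleton.1 hv
      rw [hgv, Matrix.mulVec_smul, hc, smul_smul]
      exact Submodule.smul_mem _ _ (Submodule.mem_span_singleton_self c)
    have h2 := dvd_dim hl (by rw [hF]; exact hlp) hk hgl hinv
    rw [finrank_span_singleton hc0] at h2
    have h4 : finrank F (Submodule.span F {c} ⊓ fx g : Submodule F (Fin 2 → F)) ≤ finrank F (fx g) :=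
      Submodule.finrank_mono inf_le_right
    omega

/-- **the element `z`** -/
theorem exists_z (hp : p.Prime) (h5 : 5 ≤ p) (hf : 1 ≤ f) (hF : Nat.card F = p ^ f) :
    ∃ z : Matrix.symplecticGroup (Fin 3) F, (∃ (k : ℕ) (u : Matrix.symplecticGroup (Fin 3) F), z ^ k = u ∧ orderOf u = p ∧
        finrank F (LinearMap.ker (Polynomial.aeval (Matrix.toLin' ((spToGL 3 F u : GL (Fin 3 ⊕ Fin 3) F) :
          Matrix (Fin 3 ⊕ Fin 3) (Fin 3 ⊕ Fin 3) F)) (Polynomial.X - 1 : Polynomial F))) = 2) ∧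
      ∀ X : Submodule F (Fin 3 ⊕ Fin 3 → F), Inv (spToGL 3 F z) X → X ≠ ⊥ → finrank F X ≤ 2 →
        finrank F X = 2 ∧ IsTotallySingularFor (sympForm 3 F) X := by
  obtain ⟨h, m, hm, hhm, hh⟩ := exists_h hp h5 hf hF
  have h2 : (2 : F) ≠ 0 := by
    have := cast_ne hp hF Nat.prime_two (by omega)
    exact_mod_cast this
  have hch : (p : F) = 0 := by
    obtain ⟨c, hc⟩ := CharP.exists F
    obtain ⟨k, hcp, hk⟩ := FiniteField.card F c
    have h3 : c = p := char_eq hp hF hcp
    rw [← h3]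
    exact CharP.cast_eq_zero F c
  obtain ⟨a, b, hab⟩ := Lib.PSL2Torus.exists_sum_sq h2 (-1 : F)
  have hj := jMat_orth hab h2
  have hu : (psi (jMat a b) hj) ^ p = 1 := by
    apply Subtype.ext
    change psiMat (jMat a b) ^ p = 1
    rw [psiMat_pow, jMat_pow hab hp (by omega) hch]
    exact Matrix.fromBlocks_one
  have hph : (phi h) ^ m = 1 := by rw [← map_pow, hhm, map_one]
  obtain ⟨k, hk⟩ := exists_pow_right (commute_phi_psi h (jMat a b) hj) hph hu hm
  have hfin : finrank F (LinearMap.ker (Polynomial.aeval (Matrix.toLin' ((spToGL 3 F (psi (jMat a b) hj) :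
      GL (Fin 3 ⊕ Fin 3) F) : Matrix (Fin 3 ⊕ Fin 3) (Fin 3 ⊕ Fin 3) F)) (Polynomial.X - 1 : Polynomial F))) = 2 := by
    have h1 : LinearMap.ker (Polynomial.aeval (Matrix.toLin' ((spToGL 3 F (psi (jMat a b) hj) :
      GL (Fin 3 ⊕ Fin 3) F) : Matrix (Fin 3 ⊕ Fin 3) (Fin 3 ⊕ Fin 3) F)) (Polynomial.X - 1 : Polynomial F)) =
        LinearMap.range (tens ![a, b, 1]) := by
      ext x
      rw [LinearMap.mem_ker, map_sub, Polynomial.aeval_X, map_one, LinearMap.sub_apply,
        Matrix.toLin'_apply, ← psi_fix_iff hab, Module.End.one_apply, sub_eq_zero]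
      rfl
    rw [h1, LinearMap.finrank_range_of_inj (tens_inj (by simp)), finrank_fintype_fun_eq_card, Fintype.card_fin]
  refine ⟨phi h * psi (jMat a b) hj, ⟨k, psi (jMat a b) hj, hk, ?_, hfin⟩, ?_⟩
  · have := Fact.mk hp
    apply orderOf_eq_prime hu
    intro h1
    rw [h1, map_one, Units.val_one, Matrix.toLin'_one, map_sub, Polynomial.aeval_X, map_one] at hfin
    have h3 : (LinearMap.id : (Fin 3 ⊕ Fin 3 → F) →ₗ[F] (Fin 3 ⊕ Fin 3 → F)) - 1 = 0 := sub_self _
    rw [h3, LinearMap.ker_zero, finrank_top, finrank_fintype_fun_eq_card] at hfin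
    have h4 : Fintype.card (Fin 3 ⊕ Fin 3) = 6 := rfl
    omega
  · intro X hX hX0 hX2
    exact inv_sub hab hh (u := spToGL 3 F (psi (jMat a b) hj)) (by rw [← map_pow, hk]) rfl rfl hX hX0 hX2

end exist

end Cfsg.Agent.H109.Cov
end

-- part: H109/Cov/ElC
section
/-!
# S2499, `PSp_6(q)`: the element `diag (M, M⁻ᵀ)`, `M ∈ GL_3(q)` of prime order `l` (exponent 3) (helper109)

* `exists_c` : an element `x` of `Sp_6(q)` of order `l` without invariant subspaces of dimension 1, 2, and a
  polynomial `P` with `dim ker P(x) = 3`.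
-/

set_option autoImplicit false

namespace Cfsg.Agent.H109.Cov

open Cfsg Cfsg.Geo Module Cfsg.Agent.ClassicalGeometry.SympBasic
open Cfsg.Agent.H876 (spToGL)
open scoped Matrix MatrixGroups

universe u

section dg

variable {F : Type u} [Field F]

/-- `diag (M, M⁻ᵀ)` -/
def dgMat (M : GL (Fin 3) F) : Matrix (Fin 3 ⊕ Fin 3) (Fin 3 ⊕ Fin 3) F :=
  Matrix.fromBlocks (M : Matrix (Fin 3) (Fin 3) F) 0 0 ((M⁻¹ : GL (Fin 3) F) : Matrix (Fin 3) (Fin 3) F)ᵀ

theorem inv_mul' (M : GL (Fin 3) F) : ((M⁻¹ : GL (Fin 3) F) : Matrix (Fin 3) (Fin 3) F) *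
    (M : Matrix (Fin 3) (Fin 3) F) = 1 := by rw [← Units.val_mul, inv_mul_cancel, Units.val_one]

theorem mul_inv' (M : GL (Fin 3) F) : (M : Matrix (Fin 3) (Fin 3) F) *
    ((M⁻¹ : GL (Fin 3) F) : Matrix (Fin 3) (Fin 3) F) = 1 := by rw [← Units.val_mul, mul_inv_cancel, Units.val_one]

theorem dg_mem (M : GL (Fin 3) F) : dgMat M ∈ Matrix.symplecticGroup (Fin 3) F := by
  rw [SymplecticGroup.mem_iff]
  unfold dgMat Matrix.J
  rw [Matrix.fromBlocks_transpose, Matrix.fromBlocks_multiply, Matrix.fromBlocks_multiply]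
  simp only [Matrix.transpose_zero, Matrix.transpose_transpose, Matrix.mul_zero, Matrix.zero_mul, add_zero, zero_add,
    Matrix.mul_neg, Matrix.mul_one, Matrix.neg_mul]
  rw [mul_inv', ← Matrix.transpose_mul, mul_inv', Matrix.transpose_one, neg_zero]

/-- `M ↦ diag (M, M⁻ᵀ)` -/
def dg : GL (Fin 3) F →* Matrix.symplecticGroup (Fin 3) F where
  toFun M := ⟨dgMat M, dg_mem M⟩
  map_one' := by
    apply Subtype.ext
    change dgMat 1 = 1
    unfold dgMat
    simp [Matrix.fromBlocks_one]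
  map_mul' M N := by
    apply Subtype.ext
    change dgMat (M * N) = dgMat M * dgMat N
    unfold dgMat
    rw [Matrix.fromBlocks_multiply, mul_inv_rev, Units.val_mul, Units.val_mul, Matrix.transpose_mul]
    simp

theorem dg_inj : Function.Injective (dg (F := F)) := by
  intro M N h
  apply Units.ext
  have h1 : dgMat M = dgMat N := congrArg Subtype.val h
  have h2 := congrArg Matrix.toBlocks₁₁ h1
  unfold dgMat at h2
  rwa [Matrix.toBlocks_fromBlocks₁₁, Matrix.toBlocks_fromBlocks₁₁] at h2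

theorem dgMat_mulVec (M : GL (Fin 3) F) (v : Fin 3 ⊕ Fin 3 → F) :
    dgMat M *ᵥ v = Sum.elim ((M : Matrix (Fin 3) (Fin 3) F) *ᵥ (v ∘ Sum.inl))
      (((M⁻¹ : GL (Fin 3) F) : Matrix (Fin 3) (Fin 3) F)ᵀ *ᵥ (v ∘ Sum.inr)) := by
  unfold dgMat
  rw [Matrix.fromBlocks_mulVec, Matrix.zero_mulVec, Matrix.zero_mulVec, add_zero, zero_add]

theorem aeval_dg (M : GL (Fin 3) F) (P : Polynomial F) (v : Fin 3 ⊕ Fin 3 → F) :
    Polynomial.aeval (Matrix.toLin' (dgMat M)) P v =
      Sum.elim (Polynomial.aeval (Matrix.toLin' (M : Matrix (Fin 3) (Fin 3) F)) P (v ∘ Sum.inl))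
        (Polynomial.aeval (Matrix.toLin' ((M⁻¹ : GL (Fin 3) F) : Matrix (Fin 3) (Fin 3) F)ᵀ) P (v ∘ Sum.inr)) := by
  induction P using Polynomial.induction_on' generalizing v with
  | add P Q hP hQ =>
    rw [map_add, map_add, map_add, LinearMap.add_apply, LinearMap.add_apply, LinearMap.add_apply, hP, hQ]
    funext i
    rcases i with i | i <;> simp only [_root_.Matrix.coe_units_inv, _root_.Pi.add_apply, _root_.Sum.elim_inl, _root_.Sum.elim_inr]
  | monomial n a =>
    rw [Polynomial.aeval_monomial, Polynomial.aeval_monomial, Polynomial.aeval_monomial]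
    change a • ((Matrix.toLin' (dgMat M)) ^ n) v = Sum.elim
      (a • ((Matrix.toLin' (M : Matrix (Fin 3) (Fin 3) F)) ^ n) (v ∘ Sum.inl))
      (a • ((Matrix.toLin' ((M⁻¹ : GL (Fin 3) F) : Matrix (Fin 3) (Fin 3) F)ᵀ) ^ n) (v ∘ Sum.inr))
    have h1 : ((Matrix.toLin' (dgMat M)) ^ n) v = Sum.elim
        (((Matrix.toLin' (M : Matrix (Fin 3) (Fin 3) F)) ^ n) (v ∘ Sum.inl))
        (((Matrix.toLin' ((M⁻¹ : GL (Fin 3) F) : Matrix (Fin 3) (Fin 3) F)ᵀ) ^ n) (v ∘ Sum.inr)) := by
      induction n with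
      | zero => rw [pow_zero, pow_zero, pow_zero]; exact (Sum.elim_comp_inl_inr v).symm
      | succ n ih =>
        rw [pow_succ', pow_succ', pow_succ', Module.End.mul_apply, Module.End.mul_apply, Module.End.mul_apply, ih,
          Matrix.toLin'_apply, dgMat_mulVec, Sum.elim_comp_inl, Sum.elim_comp_inr, Matrix.toLin'_apply,
          Matrix.toLin'_apply]
    rw [h1]
    funext i
    rcases i with i | i <;> simp only [_root_.Matrix.coe_units_inv, _root_.Pi.smul_apply, _root_.Sum.elim_inl, _root_.smul_eq_mul, _root_.Sum.elim_inr]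

end dg

section ker

variable {F : Type u} [Field F]

/-- the cubic polynomial of `M` and the inverse transpose -/
theorem ker_zero (h2 : (2 : F) ≠ 0) {M : GL (Fin 3) F} {l : ℕ} (hl : Odd l) (hMl : M ^ l = 1)
    (hdet : (M : Matrix (Fin 3) (Fin 3) F).det = 1) (hfx : fx M = ⊥) {y : Fin 3 → F}
    (hy : Polynomial.aeval (Matrix.toLin' ((M⁻¹ : GL (Fin 3) F) : Matrix (Fin 3) (Fin 3) F)ᵀ)
      (M : Matrix (Fin 3) (Fin 3) F).charpoly y = 0) : y = 0 := by
  set P := (M : Matrix (Fin 3) (Fin 3) F).charpoly with hP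
  have hdeg : P.natDegree = 3 := by
    rw [hP, Matrix.charpoly_natDegree_eq_dim, Fintype.card_fin]
  have hmon : P.Monic := Matrix.charpoly_monic _
  have hc3 : P.coeff 3 = 1 := by rw [← hdeg]; exact hmon
  have hc0 : P.coeff 0 = -1 := by
    have h := Matrix.det_eq_sign_charpoly_coeff (M : Matrix (Fin 3) (Fin 3) F)
    rw [hdet, Fintype.card_fin, ← hP] at h
    linear_combination h
  have hev : ∀ {A : Type u} [Ring A] [Algebra F A] (x : A),
      Polynomial.aeval x P = -1 + P.coeff 1 • x + P.coeff 2 • (x * x) + x * x * x := by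
    intro A _ _ x
    rw [Polynomial.aeval_eq_sum_range, hdeg, Finset.sum_range_succ, Finset.sum_range_succ, Finset.sum_range_succ,
      Finset.sum_range_one, hc0, hc3, pow_zero, pow_one, one_smul, neg_smul, one_smul, pow_two, pow_succ, pow_two]
  set N : Matrix (Fin 3) (Fin 3) F := ((M⁻¹ : GL (Fin 3) F) : Matrix (Fin 3) (Fin 3) F)ᵀ with hN
  set R : Matrix (Fin 3) (Fin 3) F := (M : Matrix (Fin 3) (Fin 3) F)ᵀ with hR
  have hNR : N * R = 1 := by rw [hN, hR, ← Matrix.transpose_mul, mul_inv', Matrix.transpose_one]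
  have hRN : R * N = 1 := by rw [hN, hR, ← Matrix.transpose_mul, inv_mul', Matrix.transpose_one]
  set a := P.coeff 1 with ha
  set b := P.coeff 2 with hb
  have hCH : -1 + a • R + b • (R * R) + R * R * R = 0 := by
    have h1 := Matrix.aeval_self_charpoly (M : Matrix (Fin 3) (Fin 3) F)
    rw [← hP, hev] at h1
    have h3 := congrArg Matrix.transpose h1
    simp only [Matrix.transpose_add, Matrix.transpose_neg, Matrix.transpose_one, Matrix.transpose_smul,
      Matrix.transpose_mul, Matrix.transpose_zero] at h3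
    rw [← hR, ← Matrix.mul_assoc] at h3
    exact h3
  -- the equation of `N`
  have hN3 : N * N * N = 1 + b • N + a • (N * N) := by
    have h1 : N * N * N * (-1 + a • R + b • (R * R) + R * R * R) = 0 := by rw [hCH, Matrix.mul_zero]
    have e1 : N * N * N * R = N * N := by rw [Matrix.mul_assoc, hNR, Matrix.mul_one]
    have e2 : N * N * N * (R * R) = N := by rw [← Matrix.mul_assoc, e1, Matrix.mul_assoc, hNR, Matrix.mul_one]
    have e3 : N * N * N * (R * R * R) = 1 := by
      rw [← Matrix.mul_assoc (N * N * N), e2, hNR]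
    rw [Matrix.mul_add, Matrix.mul_add, Matrix.mul_add, Matrix.mul_smul, Matrix.mul_smul, e1, e2, e3, Matrix.mul_neg,
      Matrix.mul_one] at h1
    have h3 : N * N * N = N * N * N + (-(N * N * N) + a • (N * N) + b • N + 1) := by rw [h1, add_zero]
    rw [h3]
    abel
  have hy' : -y + a • (N *ᵥ y) + b • (N *ᵥ (N *ᵥ y)) + N *ᵥ (N *ᵥ (N *ᵥ y)) = 0 := by
    rw [hev] at hy
    have h1 : (-1 + a • Matrix.toLin' N + b • (Matrix.toLin' N * Matrix.toLin' N) +
        Matrix.toLin' N * Matrix.toLin' N * Matrix.toLin' N : Module.End F (Fin 3 → F)) y =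
        -y + a • (N *ᵥ y) + b • (N *ᵥ (N *ᵥ y)) + N *ᵥ (N *ᵥ (N *ᵥ y)) := by
      simp only [LinearMap.add_apply, Module.End.mul_apply, Matrix.toLin'_apply, _root_.LinearMap.neg_apply, _root_.Module.End.one_apply, _root_.LinearMap.smul_apply, _root_.Matrix.mulVec_mulVec]
    rw [← h1]
    exact hy
  have hN3' : N *ᵥ (N *ᵥ (N *ᵥ y)) = y + b • (N *ᵥ y) + a • (N *ᵥ (N *ᵥ y)) := by
    have h1 := congrArg (fun A => A *ᵥ y) hN3
    simp only [Matrix.add_mulVec, Matrix.smul_mulVec, Matrix.one_mulVec, ← Matrix.mulVec_mulVec] at h1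
    exact h1
  have hab : (a + b) • (N *ᵥ y + N *ᵥ (N *ᵥ y)) = 0 := by
    rw [hN3'] at hy'
    rw [← hy']
    module
  rcases smul_eq_zero.1 hab with h | h
  · -- `P(1) = 0`
    exfalso
    have h1 : P.eval 1 = 0 := by
      have h3 := hev (1 : F)
      rw [Polynomial.coe_aeval_eq_eval] at h3
      rw [h3]
      simp only [smul_eq_mul, mul_one]
      linear_combination h
    rw [hP, Matrix.eval_charpoly] at h1
    obtain ⟨v, hv0, hv⟩ := Matrix.exists_mulVec_eq_zero_iff.2 h1
    apply hv0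
    have h3 : v ∈ fx M := by
      rw [mem_fx]
      rw [map_one, Matrix.sub_mulVec, Matrix.one_mulVec, sub_eq_zero] at hv
      exact hv.symm
    rw [hfx] at h3
    exact h3
  · -- `-1` is an eigenvalue of `N`
    have h1 : y + N *ᵥ y = 0 := by
      have h3 := congrArg (fun v => R *ᵥ v) h
      simp only [Matrix.mulVec_add, Matrix.mulVec_mulVec, Matrix.mulVec_zero] at h3
      rw [← Matrix.mul_assoc, hRN, Matrix.one_mulVec, Matrix.one_mul] at h3
      exact h3
    have h3 : N *ᵥ y = (-1 : F) • y := by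
      rw [neg_smul, one_smul]
      exact eq_neg_of_add_eq_zero_right h1
    have h4 : ∀ n : ℕ, (N ^ n) *ᵥ y = ((-1 : F) ^ n) • y := by
      intro n
      induction n with
      | zero => simp
      | succ n ih => rw [pow_succ, ← Matrix.mulVec_mulVec, h3, Matrix.mulVec_smul, ih, smul_smul, ← pow_succ']
    have h5 : N ^ l = 1 := by
      rw [hN, ← Matrix.transpose_pow, ← Units.val_pow_eq_pow_val, inv_pow, hMl, inv_one, Units.val_one,
        Matrix.transpose_one]
    have h6 := h4 l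
    rw [h5, Matrix.one_mulVec, hl.neg_one_pow, neg_smul, one_smul] at h6
    have h7 : (2 : F) • y = 0 := by
      rw [two_smul]
      nth_rewrite 1 [h6]
      exact neg_add_cancel y
    exact (smul_eq_zero.1 h7).resolve_left h2

end ker

section exist

variable {F : Type u} [Field F] [Fintype F] {p f : ℕ}

/-- **the element `diag (M, M⁻ᵀ)`** -/
theorem exists_c (hp : p.Prime) (h5 : 5 ≤ p) (hf : 1 ≤ f) (hF : Nat.card F = p ^ f) {l : ℕ} (hl : PP p f 3 l) :
    ∃ x : Matrix.symplecticGroup (Fin 3) F, orderOf x = l ∧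
      (∃ P : Polynomial F, finrank F (LinearMap.ker (Polynomial.aeval (Matrix.toLin' ((spToGL 3 F x :
        GL (Fin 3 ⊕ Fin 3) F) : Matrix (Fin 3 ⊕ Fin 3) (Fin 3 ⊕ Fin 3) F)) P)) = 3) ∧
      ∀ X : Submodule F (Fin 3 ⊕ Fin 3 → F), Inv (spToGL 3 F x) X → X ≠ ⊥ → 3 ≤ finrank F X := by
  classical
  have := Fact.mk hl.prime
  have hl3 := hl.lt hf (by norm_num)
  have hlodd : Odd l := hl.prime.odd_of_ne_two (by omega)
  have h2 : (2 : F) ≠ 0 := by
    have := cast_ne hp hF Nat.prime_two (by omega)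
    exact_mod_cast this
  obtain ⟨M, hM⟩ := exists_prime_orderOf_dvd_card' (G := GL (Fin 3) F) l (by
    rw [Nat.card_eq_fintype_card, ← Nat.card_eq_fintype_card, Matrix.card_GL_field, Fin.prod_univ_three,
      ← Nat.card_eq_fintype_card, hF]
    apply Dvd.dvd.mul_right
    apply Dvd.dvd.mul_right
    simp only [Fin.val_zero, pow_zero]
    rw [hl.pow_iff hf])
  have hMl : M ^ l = 1 := by rw [← hM, pow_orderOf_eq_one]
  have hM1 : M ≠ 1 := by
    rintro rfl
    rw [orderOf_one] at hM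
    exact hl.prime.one_lt.ne hM
  have hfx3 : ∀ g : GL (Fin 3) F, g ^ l = 1 → g ≠ 1 → fx g = ⊥ := by
    intro g hg hg1
    have h3 := hl.dvd_fx hf hF hg
    have h4 := finrank_fx_lt hg1
    rw [Fintype.card_fin] at h3 h4
    rw [← Submodule.finrank_eq_zero (R := F)]
    omega
  have hfx := hfx3 M hMl hM1
  -- the determinant
  have hdet : (M : Matrix (Fin 3) (Fin 3) F).det = 1 := by
    let d : Fˣ := Matrix.GeneralLinearGroup.det M
    have h3 : d ^ l = 1 := by
      change (Matrix.GeneralLinearGroup.det M) ^ l = 1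
      rw [← map_pow, hMl, map_one]
    have h4 : orderOf d ∣ l := orderOf_dvd_of_pow_eq_one h3
    have h6 : orderOf d ∣ Nat.card Fˣ := orderOf_dvd_natCard d
    rw [Nat.card_units, hF] at h6
    have h7 : d = 1 := by
      rcases (Nat.dvd_prime hl.prime).1 h4 with h | h
      · exact orderOf_eq_one_iff.1 h
      · exfalso
        rw [h] at h6
        have h8 := (hl.pow_iff hf 1).1 (by rwa [pow_one])
        omega
    have h8 : (d : F) = (M : Matrix (Fin 3) (Fin 3) F).det := rfl
    rw [← h8, h7, Units.val_one]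
  -- the fixed space of `x`
  have hfxx : fx (spToGL 3 F (dg M)) = ⊥ := by
    rw [eq_bot_iff]
    intro v hv
    have hv' : dgMat M *ᵥ v = v := hv
    rw [dgMat_mulVec] at hv'
    have e0 : (M : Matrix (Fin 3) (Fin 3) F) *ᵥ (v ∘ Sum.inl) = v ∘ Sum.inl := by
      funext i
      exact congrFun hv' (Sum.inl i)
    have e1 : ((M⁻¹ : GL (Fin 3) F) : Matrix (Fin 3) (Fin 3) F)ᵀ *ᵥ (v ∘ Sum.inr) = v ∘ Sum.inr := by
      funext i
      exact congrFun hv' (Sum.inr i)
    have f0 : v ∘ Sum.inl = 0 := by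
      have : v ∘ Sum.inl ∈ fx M := e0
      rw [hfx] at this
      exact this
    have f1 : v ∘ Sum.inr = 0 := by
      let N : GL (Fin 3) F := ⟨((M⁻¹ : GL (Fin 3) F) : Matrix (Fin 3) (Fin 3) F)ᵀ, (M : Matrix (Fin 3) (Fin 3) F)ᵀ,
        by rw [← Matrix.transpose_mul, mul_inv', Matrix.transpose_one],
        by rw [← Matrix.transpose_mul, inv_mul', Matrix.transpose_one]⟩
      have hNl : N ^ l = 1 := by
        apply Units.ext
        rw [Units.val_pow_eq_pow_val]
        change (((M⁻¹ : GL (Fin 3) F) : Matrix (Fin 3) (Fin 3) F)ᵀ) ^ l = 1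
        rw [← Matrix.transpose_pow, ← Units.val_pow_eq_pow_val, inv_pow, hMl, inv_one, Units.val_one,
          Matrix.transpose_one]
      have hN1 : N ≠ 1 := by
        intro h
        apply hM1
        have h3 : ((M⁻¹ : GL (Fin 3) F) : Matrix (Fin 3) (Fin 3) F)ᵀ = 1 :=
          congrArg (fun x : GL (Fin 3) F => (x : Matrix (Fin 3) (Fin 3) F)) h
        have h4 : ((M⁻¹ : GL (Fin 3) F) : Matrix (Fin 3) (Fin 3) F) = 1 := by
          rw [← Matrix.transpose_transpose ((M⁻¹ : GL (Fin 3) F) : Matrix (Fin 3) (Fin 3) F), h3,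
            Matrix.transpose_one]
        have h6 : M⁻¹ = 1 := Units.ext h4
        exact inv_eq_one.1 h6
      have : v ∘ Sum.inr ∈ fx N := e1
      rw [hfx3 N hNl hN1] at this
      exact this
    rw [Submodule.mem_bot]
    funext i
    rcases i with i | i
    · exact congrFun f0 i
    · exact congrFun f1 i
  refine ⟨dg M, ?_, ⟨(M : Matrix (Fin 3) (Fin 3) F).charpoly, ?_⟩, ?_⟩
  · rw [orderOf_injective dg dg_inj, hM]
  · have h3 : LinearMap.ker (Polynomial.aeval (Matrix.toLin' ((spToGL 3 F (dg M) :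
        GL (Fin 3 ⊕ Fin 3) F) : Matrix (Fin 3 ⊕ Fin 3) (Fin 3 ⊕ Fin 3) F)) (M : Matrix (Fin 3) (Fin 3) F).charpoly) =
        LinearMap.ker (LinearMap.funLeft F F (Sum.inr : Fin 3 → Fin 3 ⊕ Fin 3)) := by
      ext v
      rw [LinearMap.mem_ker, LinearMap.mem_ker]
      have h4 := aeval_dg M (M : Matrix (Fin 3) (Fin 3) F).charpoly v
      have h6 : Polynomial.aeval (Matrix.toLin' (M : Matrix (Fin 3) (Fin 3) F))
          (M : Matrix (Fin 3) (Fin 3) F).charpoly = 0 := by
        have h7 := Matrix.aeval_self_charpoly (M : Matrix (Fin 3) (Fin 3) F)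
        have h8 := Polynomial.aeval_algHom_apply ((Matrix.toLinAlgEquiv' (R := F) (n := Fin 3)).toAlgHom)
          (M : Matrix (Fin 3) (Fin 3) F) (M : Matrix (Fin 3) (Fin 3) F).charpoly
        rw [h7, map_zero] at h8
        exact h8
      rw [h6, LinearMap.zero_apply] at h4
      constructor
      · intro hv
        have h7 : Polynomial.aeval (Matrix.toLin' (dgMat M)) (M : Matrix (Fin 3) (Fin 3) F).charpoly v = 0 := hv
        rw [h4] at h7
        apply ker_zero h2 hlodd hMl hdet hfx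
        funext i
        exact congrFun h7 (Sum.inr i)
      · intro hv
        have h8 : v ∘ Sum.inr = 0 := hv
        change Polynomial.aeval (Matrix.toLin' (dgMat M)) (M : Matrix (Fin 3) (Fin 3) F).charpoly v = 0
        rw [h4, h8, map_zero]
        funext i
        rcases i with i | i <;> rfl
    rw [h3]
    have h4 := LinearMap.finrank_range_add_finrank_ker (LinearMap.funLeft F F (Sum.inr : Fin 3 → Fin 3 ⊕ Fin 3))
    rw [LinearMap.range_eq_top.2 (LinearMap.funLeft_surjective_of_injective F F _ Sum.inr_injective), finrank_top,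
      finrank_fintype_fun_eq_card, finrank_fintype_fun_eq_card, Fintype.card_fin] at h4
    have h6 : Fintype.card (Fin 3 ⊕ Fin 3) = 6 := rfl
    omega
  · intro X hX hX0
    have h3 := hl.dvd_dim hf hF (g := spToGL 3 F (dg M)) (by rw [← map_pow, ← map_pow, hMl, map_one, map_one]) hX
    rw [hfxx, inf_bot_eq, finrank_bot, Nat.sub_zero] at h3
    have h4 : finrank F X ≠ 0 := by
      rw [Ne, Submodule.finrank_eq_zero]; exact hX0
    exact Nat.le_of_dvd (by omega) h3

end exist

end Cfsg.Agent.H109.Cov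
end

-- part: H109/Cov/Main
section
/-!
# S2499: `NoTwo (PSp_6(q))` for `q` odd, prime to 3 (helper109)

`noTwo_psp3` : `PSp_6(q)`, `q` a power of a prime `p ≥ 5`, is not the union of the conjugates of two proper subgroups
(hypothesis: the conclusion of S5806 for the residual maximal subgroups of `Sp_6(q)`).
-/

set_option autoImplicit false

namespace Cfsg.Agent.H109.Cov

open Cfsg Cfsg.Geo Module Cfsg.Agent.ClassicalGeometry.SympBasic Cfsg.Agent.H278.Cov
open Cfsg.Agent.H876 (spToGL)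
open scoped Matrix MatrixGroups

universe u

section bridge

variable {F : Type u} [Field F] {m : ℕ}

theorem isMaximalIn_map {H : Subgroup (Matrix.symplecticGroup (Fin m) F)} (hH : IsCoatom H) :
    IsMaximalIn (spGL m F) (H.map (spToGL m F)) := by
  have hle : ∀ L : Subgroup (Matrix.symplecticGroup (Fin m) F), L.map (spToGL m F) ≤ spGL m F := by
    rintro L _ ⟨x, -, rfl⟩
    exact H931.spToGL_mem x
  have hinj : Function.Injective (spToGL m F) := by
    intro a b h
    apply Subtype.ext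
    exact congrArg (fun g : GL (Fin m ⊕ Fin m) F => (g : Matrix (Fin m ⊕ Fin m) (Fin m ⊕ Fin m) F)) h
  constructor
  · refine lt_of_le_of_ne (hle H) ?_
    intro h
    apply hH.1
    rw [← H931.map_spToGL_top] at h
    exact Subgroup.map_injective hinj h
  · intro M h1 h2
    have h3 : (M.comap (spToGL m F)).map (spToGL m F) = M := by
      apply le_antisymm (Subgroup.map_comap_le _ _)
      intro g hg
      obtain ⟨A, rfl⟩ := H931.exists_spToGL (h2 hg)
      exact ⟨A, hg, rfl⟩
    have h4 : H ≤ M.comap (spToGL m F) := Subgroup.map_le_iff_le_comap.1 h1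
    rcases hH.le_iff.1 h4 with h5 | h5
    · right
      rw [← h3, h5, H931.map_spToGL_top]
    · left
      rw [← h3, h5]

end bridge

variable {F : Type u} [Field F] [Fintype F] {p f : ℕ}

theorem card_map (H : Subgroup (Matrix.symplecticGroup (Fin 3) F)) :
    Nat.card (H.map (spToGL 3 F)) = Nat.card H :=
  (Nat.card_congr (H.equivMapOfInjective _ spToGL_inj).toEquiv).symm

theorem map_conj_mem {H : Subgroup (Matrix.symplecticGroup (Fin 3) F)} {g x : Matrix.symplecticGroup (Fin 3) F}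
    (h : g * x * g⁻¹ ∈ H) : spToGL 3 F g * spToGL 3 F x * (spToGL 3 F g)⁻¹ ∈ H.map (spToGL 3 F) :=
  ⟨g * x * g⁻¹, h, by rw [map_mul, map_mul, map_inv]⟩

theorem dvd_card_of_conj {G : Type*} [Group G] [Finite G] {H : Subgroup G} {g x : G} (h : g * x * g⁻¹ ∈ H) :
    orderOf x ∣ Nat.card H := by
  have h1 : orderOf (g * x * g⁻¹) = orderOf x := by
    have h3 : g * x * g⁻¹ = (MulAut.conj g).toMonoidHom x := rfl
    rw [h3]
    exact orderOf_injective _ (MulAut.conj g).injective x
  rw [← h1, ← Subgroup.orderOf_mk _ h]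
  exact orderOf_dvd_natCard _

theorem noTwo_sp3 (h06 : ∀ H : Subgroup (GL (Fin 3 ⊕ Fin 3) F), IsMaximalIn (spGL 3 F) H →
    InSymplecticResidualClass H → L06 H) (hp : p.Prime) (h5 : 5 ≤ p) (hf : 1 ≤ f) (hF : Nat.card F = p ^ f) :
    NoTwo (Matrix.symplecticGroup (Fin 3) F) := by
  classical
  have hfin : Finite (Matrix.symplecticGroup (Fin 3) F) := inferInstance
  obtain ⟨r, hr⟩ := exists_pp (p := p) (f := f) (by omega) hf (k := 6) (by norm_num)
  obtain ⟨l, hl⟩ := exists_pp (p := p) (f := f) (by omega) hf (k := 3) (by norm_num)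
  obtain ⟨s, hs⟩ := exists_pp (p := p) (f := f) (by omega) hf (k := 4) (by norm_num)
  obtain ⟨a, ha⟩ := hr.exists_sp (F := F) hf hF (Or.inr rfl)
  obtain ⟨b, ⟨k1, hk1⟩, k2, t, hk2, hto, htk⟩ := exists_b (F := F) hp hf hF hs
  obtain ⟨z, ⟨k3, u, hk3, huo, huk⟩, hz⟩ := exists_z (F := F) hp h5 hf hF
  obtain ⟨c, hco, ⟨P, hP⟩, hc⟩ := exists_c (F := F) hp h5 hf hF hl
  have hp2 : Nat.Coprime p 2 := (Nat.coprime_primes hp Nat.prime_two).2 (by omega)
  have hp3 : Nat.Coprime p 3 := (Nat.coprime_primes hp Nat.prime_three).2 (by omega)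
  have hl3 := hl.lt hf (by norm_num)
  have hl2 : Nat.Coprime l 2 := (Nat.coprime_primes hl.prime Nat.prime_two).2 (by omega)
  have hord : ∀ x : Matrix.symplecticGroup (Fin 3) F, orderOf (spToGL 3 F x) = orderOf x :=
    fun x => orderOf_injective _ spToGL_inj x
  -- `b` is not in `FT 2`
  have hbFT : ∀ (M : Subgroup (GL (Fin 3 ⊕ Fin 3) F)), FT 2 M → ∀ g : Matrix.symplecticGroup (Fin 3) F,
      spToGL 3 F g * spToGL 3 F b * (spToGL 3 F g)⁻¹ ∉ M := by
    intro M hM g
    refine avoid_ft Nat.prime_two (y := spToGL 3 F t) (n := k2) (by rw [← map_pow, hk2]) (by rw [hord, hto]; exact hp2)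
      (P := Polynomial.X - 1) ?_ hM _
    rw [htk]
    norm_num
  -- the overgroups of `b`
  have hb : ∀ (K : Subgroup (Matrix.symplecticGroup (Fin 3) F)), IsCoatom K →
      ∀ g, g * b * g⁻¹ ∈ K → Low (K.map (spToGL 3 F)) := by
    intro K hK g hg
    have hmax := isMaximalIn_map hK
    have h1 : s ∣ Nat.card (K.map (spToGL 3 F)) := by
      rw [card_map, ← hk1]
      apply (dvd_card_of_conj (g := g) (H := K))
      rw [← conj_pow]
      exact K.pow_mem hg k1
    have h2 : p ∣ Nat.card (K.map (spToGL 3 F)) := by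
      rw [card_map, ← hto, ← hk2]
      apply (dvd_card_of_conj (g := g) (H := K))
      rw [← conj_pow]
      exact K.pow_mem hg k2
    rcases over_four hp h5 hf hF hs hmax (h06 _ hmax) h1 h2 with h | h
    · exact h
    · exact absurd (map_conj_mem hg) (hbFT _ h g)
  -- the overgroups of `a`
  have ha' : ∀ (H : Subgroup (Matrix.symplecticGroup (Fin 3) F)), IsCoatom H →
      ∀ g, g * a * g⁻¹ ∈ H → r ∣ Nat.card (H.map (spToGL 3 F)) := by
    intro H _ g hg
    rw [card_map, ← ha]
    exact dvd_card_of_conj hg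
  have haLow : ∀ (H : Subgroup (Matrix.symplecticGroup (Fin 3) F)), IsCoatom H →
      ∀ g, g * a * g⁻¹ ∈ H → ¬ Low (H.map (spToGL 3 F)) := by
    rintro H hH g hg ⟨W, hW0, hW, hle⟩
    obtain ⟨x, hx, hxr, hx1⟩ := exists_elt hr.prime (ha' H hH g hg)
    have h1 := six_sub hr hf hF hxr hx1 (inv_of_mem (hle hx)) hW0
    rcases hW with h2 | ⟨-, h2⟩ <;> omega
  -- `z` and `c` are not in `Low`
  have hzLow : ∀ (K : Subgroup (Matrix.symplecticGroup (Fin 3) F)), Low (K.map (spToGL 3 F)) → Av z K := by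
    rintro K ⟨W, hW0, hW, hle⟩ g hg
    have h1 := inv_conj (inv_of_mem (hle (map_conj_mem hg)))
    have h2 := finrank_comap (spToGL 3 F g) W
    have hW1 : finrank F W ≠ 0 := by
      rw [Ne, Submodule.finrank_eq_zero]; exact hW0
    have h3 := hz _ h1 (by
      intro h
      rw [h, finrank_bot] at h2
      exact hW1 h2.symm) (by
      rw [h2]
      rcases hW with h | ⟨-, h⟩ <;> omega)
    rcases hW with h | ⟨h, -⟩
    · omega
    · have h4 := nd_comap (g := spToGL 3 F g) (H931.spToGL_mem g) h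
      obtain ⟨w, hw, hw0⟩ := (Submodule.ne_bot_iff _).1 (show W.comap (Matrix.toLin' ((spToGL 3 F g :
        GL (Fin 3 ⊕ Fin 3) F) : Matrix (Fin 3 ⊕ Fin 3) (Fin 3 ⊕ Fin 3) F)) ≠ ⊥ by
          intro h
          rw [h, finrank_bot] at h2
          exact hW1 h2.symm)
      obtain ⟨⟨x, hx, hx1⟩, -⟩ := h4 w hw hw0
      exact hx1 (h3.2 x hx w hw)
  have hcLow : ∀ (K : Subgroup (Matrix.symplecticGroup (Fin 3) F)), Low (K.map (spToGL 3 F)) → Av c K := by
    rintro K ⟨W, hW0, hW, hle⟩ g hg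
    have h1 := inv_conj (inv_of_mem (hle (map_conj_mem hg)))
    have h2 := finrank_comap (spToGL 3 F g) W
    have hW1 : finrank F W ≠ 0 := by
      rw [Ne, Submodule.finrank_eq_zero]; exact hW0
    have h3 := hc _ h1 (by
      intro h
      rw [h, finrank_bot] at h2
      exact hW1 h2.symm)
    rw [h2] at h3
    rcases hW with h | ⟨-, h⟩ <;> omega
  apply noTwo_of_two (a := a) (b := b)
  · intro H hH
    by_contra hcon
    push Not at hcon
    obtain ⟨h1, h2⟩ := hcon
    obtain ⟨g1, hg1⟩ := not_av h1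
    obtain ⟨g2, hg2⟩ := not_av h2
    exact haLow H hH g1 hg1 (hb H hH g2 hg2)
  · intro H K hH hK haH hbK
    have hlow := hb K hK 1 (by simpa using hbK)
    have hmax := isMaximalIn_map hH
    have hrH := ha' H hH 1 (by simpa using haH)
    rcases over_six hp h5 hf hF hr hmax (h06 _ hmax) hrH with h | h | h
    · refine ⟨z, fun g hg => ?_, hzLow K hlow⟩
      refine avoid_ft Nat.prime_three (x := spToGL 3 F z) (y := spToGL 3 F u) (n := k3) (by rw [← map_pow, hk3])
        (by rw [hord, huo]; exact hp3) (P := Polynomial.X - 1) ?_ h (spToGL 3 F g) (map_conj_mem hg)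
      rw [huk]
      norm_num
    · refine ⟨c, fun g hg => ?_, hcLow K hlow⟩
      refine avoid_ft Nat.prime_two (x := spToGL 3 F c) (y := spToGL 3 F c) (n := 1) (pow_one _)
        (by rw [hord, hco]; exact hl2) (P := P) ?_ h (spToGL 3 F g) (map_conj_mem hg)
      rw [hP]
      norm_num
    · rcases res_cases hp h5 hf hF hr hl hmax.1.le h hrH with h1 | h1
      · refine ⟨c, av_of_card ?_, hcLow K hlow⟩
        rw [hco, ← card_map H]
        exact h1
      · refine ⟨z, av_of_card ?_, hzLow K hlow⟩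
        intro h2
        apply h1
        rw [card_map, ← huo, ← hk3]
        exact (orderOf_pow_dvd k3).trans h2

/-- **`NoTwo (PSp_6(q))`, `q` odd and prime to 3.** -/
theorem noTwo_psp3 (h06 : ∀ H : Subgroup (GL (Fin 3 ⊕ Fin 3) F), IsMaximalIn (spGL 3 F) H →
    InSymplecticResidualClass H → L06 H) (hodd : Odd (Fintype.card F)) (h3 : ¬ 3 ∣ Fintype.card F) :
    NoTwo (PSp 3 F) := by
  obtain ⟨p, hc⟩ := CharP.exists F
  obtain ⟨k, hp, hk⟩ := FiniteField.card F p
  have hk0 : (k : ℕ) ≠ 0 := k.ne_zero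
  have h2 : p ≠ 2 := by
    rintro rfl
    rw [hk] at hodd
    exact absurd hodd (by simp only [Nat.not_odd_iff_even, Nat.even_pow, hk0, _root_.even_two, _root_.ne_eq, _root_.not_false_eq_true, _root_.and_self])
  have h3' : p ≠ 3 := by
    rintro rfl
    exact h3 (by rw [hk]; exact dvd_pow_self _ hk0)
  have h5 : 5 ≤ p := by
    have := hp.two_le
    by_contra hcon
    have : p = 4 := by omega
    rw [this] at hp
    norm_num at hp
  exact (noTwo_sp3 (f := (k : ℕ)) h06 hp h5 (by omega) (by rw [Nat.card_eq_fintype_card, hk])).of_surjective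
    (QuotientGroup.mk' _) (QuotientGroup.mk'_surjective _)

end Cfsg.Agent.H109.Cov
end

private theorem dce_3194e8e9965f : _root_.True := by
  try have : _root_.True := by simp only [_root_.Cfsg.Agent.H109.Cov.nMat.eq_1]
  exact _root_.True.intro
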